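import Cfsg.Agent.OddHalf.D9.EEight.Id.Main
import Cfsg.Agent.StdO8.Gen_m3
import Cfsg.Agent.H201.O8.Fin_m3
import Cfsg.Agent.H935.OreO8.Main
import Cfsg.Agent.H6.QO.Frame
import Cfsg.Agent.StandardComponent.FiRedVec_mg_m3
import Cfsg.Agent.H63.Plus
import Cfsg.Agent.H63.Asm
import Cfsg.Agent.H85.Ore.Phi_mg_m3
import Cfsg.Agent.H643.QO.Cov_m3
import Cfsg.Agent.UGT.U2.FOne.TwESixEnd
import Cfsg.Agent.H60.MultA
import Cfsg.Agent.Nodes.ClsPair
import Cfsg.Agent.S2106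
import Cfsg.Agent.RuLat.Main
import Cfsg.Agent.S2051
import Cfsg.Agent.RuD.Letters
import Cfsg.Agent.H915.S8.RuCent
import Cfsg.Agent.FastGrp
import Cfsg.Agent.Prune
set_option linter.all false
prune_inst 0x7ffcfdf96db8addfffff7e7ffed5dffffbf95fffafdff9cbffe8e5ff2fdf23022bc5fb838fe050fe0ed6e21c10b87813fb7eeeffe26fdc7ffffdfff41ffbee5fe5f6b508719d9cb41fbe0fff83f07f8e7f3fffffffffffffffffffffffffffbeffbfffffffff
open scoped Cfsg.Agent.FastGrp

-- part: H815/QS/Dat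
section
/-!
# The universal 2-cover of `Ω₈⁺(2)` over an arbitrary model (helper815)

`exists_dat'`: as `EEight.Id.Sub.exists_dat`, but the letters of `X` are arbitrary (no homomorphism `K → X`), and the values
of the words are part of the conclusion. `fuse`: if `c₁ x₀ c₁⁻¹ = n₁ x₀` and `c₂ x₀ c₂⁻¹ = n₂ x₀` in words, then in every
perfect central 2-extension every lift of `x₀` is conjugate to all its multiples by the kernel.
-/

set_option autoImplicit false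

namespace Cfsg.Agent.H815.QS

open Subgroup Cfsg.Agent.SporadicRecognition.CosetCert Cfsg.Agent.SporadicRecognition.CosetCertHyp
open Cfsg.Agent.KFacts.OddLift.Basic Cfsg.Agent.OddHalf.D9.EEight.Id
open Cfsg.Agent.OddHalf.D9.EEight.Id.Core Cfsg.Agent.OddHalf.D9.EEight.Id.Sub

theorem exists_dat'.{u, v, w} {L : Type u} {X : Type w} {K : Type v} [Group L] [Group X] [Group K] (π : L →* X)
    (hπ : Function.Surjective π) {x : ℕ → X} {B : ℕ → L} {k1 k2 k3 : ℕ → K} (hBx : ∀ i, π (B i) = x i)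
    (hgen : _root_.Subgroup.closure {x | ∃ i < 7, B i = x} = ⊤)
    (hB : ∀ r ∈ Bound.rels, ev (lt B 7) r = 1) (h1 : ∀ r ∈ Bound.rels, ev (lt k1 7) r = 1)
    (h2 : ∀ r ∈ Bound.rels, ev (lt k2 7) r = 1) (h3 : ∀ r ∈ Bound.rels, ev (lt k3 7) r = 1)
    {n : K} (nn : n * n = 1) (hn : n ≠ 1)
    (ncomm : ∀ k, n * k = k * n) {w1 w2 : List ℕ} (x1 : ev (lt x 7) w1 = 1) (x2 : ev (lt x 7) w2 = 1)
    (a1 : ev (lt k1 7) w1 = 1) (a2 : ev (lt k2 7) w1 = n) (a3 : ev (lt k3 7) w1 = n)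
    (c1 : ev (lt k1 7) w2 = n) (c2 : ev (lt k2 7) w2 = n) (c3 : ev (lt k3 7) w2 = 1)
    (hX : Nat.card X = 174182400) :
    ∃ (D : Type (max u v)) (_ : Group D) (_ : Finite D) (S : Dat D L X K), S.π = π ∧ ∃ b : ℕ → D,
      (∀ r, S.p (ev (lt b 7) r) = ev (lt B 7) r) ∧ (∀ r, S.q1 (ev (lt b 7) r) = ev (lt k1 7) r) ∧
      (∀ r, S.q2 (ev (lt b 7) r) = ev (lt k2 7) r) ∧ S.n1 = ev (lt b 7) w1 ∧ S.n2 = ev (lt b 7) w2 := by
  set b : ℕ → L × K × K × K := fun i => (B i, k1 i, k2 i, k3 i) with hb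
  have e0 : ∀ r, (ev (lt b 7) r).1 = ev (lt B 7) r := fun r => map_ev_lt b 7 (MonoidHom.fst L (K × K × K)) r
  have e1 : ∀ r, (ev (lt b 7) r).2.1 = ev (lt k1 7) r := fun r =>
    map_ev_lt b 7 ((MonoidHom.fst K (K × K)).comp (MonoidHom.snd L (K × K × K))) r
  have e2 : ∀ r, (ev (lt b 7) r).2.2.1 = ev (lt k2 7) r := fun r =>
    map_ev_lt b 7 ((MonoidHom.fst K K).comp ((MonoidHom.snd K (K × K)).comp (MonoidHom.snd L (K × K × K)))) r
  have e3 : ∀ r, (ev (lt b 7) r).2.2.2 = ev (lt k3 7) r := fun r =>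
    map_ev_lt b 7 ((MonoidHom.snd K K).comp ((MonoidHom.snd K (K × K)).comp (MonoidHom.snd L (K × K × K)))) r
  have ex : ∀ r, π (ev (lt B 7) r) = ev (lt x 7) r := by
    intro r
    rw [map_ev_lt]
    congr 2
    funext i
    exact hBx i
  have hrel : ∀ r ∈ Bound.rels, ev (lt b 7) r = 1 := by
    intro r hr
    refine Prod.ext ?_ (Prod.ext ?_ (Prod.ext ?_ ?_))
    · rw [e0, hB r hr]; rfl
    · rw [e1, h1 r hr]; rfl
    · rw [e2, h2 r hr]; rfl
    · rw [e3, h3 r hr]; rfl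
  obtain ⟨hfin, hcard⟩ := Bound.bound hrel
  have hrelD : ∀ r ∈ CertL1.rels, ev (lt (bD b) 7) r = 1 := by
    intro r hr
    apply Subtype.ext
    rw [coe_ev, hrel r hr]
    rfl
  refine ⟨Bound.S b 7, inferInstance, hfin,
    { p := (MonoidHom.fst L (K × K × K)).comp (Bound.S b 7).subtype
      π := π
      q1 := ((MonoidHom.fst K (K × K)).comp (MonoidHom.snd L (K × K × K))).comp (Bound.S b 7).subtype
      q2 := ((MonoidHom.fst K K).comp ((MonoidHom.snd K (K × K)).comp (MonoidHom.snd L (K × K × K)))).comp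
        (Bound.S b 7).subtype
      q3 := ((MonoidHom.snd K K).comp ((MonoidHom.snd K (K × K)).comp (MonoidHom.snd L (K × K × K)))).comp
        (Bound.S b 7).subtype
      n := n
      n1 := ev (lt (bD b) 7) w1
      n2 := ev (lt (bD b) 7) w2
      psurj := ?_
      πsurj := hπ
      perfect := Perfect.perfect hrelD (closure_bD b)
      nn := nn
      hn := hn
      ncomm := ncomm
      θ1 := ?_
      θ2 := ?_
      a1 := ?_
      a2 := ?_
      a3 := ?_
      c1 := ?_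
      c2 := ?_
      c3 := ?_
      card_le := ?_ }, rfl, bD b, ?_, ?_, ?_, rfl, rfl⟩
  · rw [← MonoidHom.range_eq_top, eq_top_iff, ← hgen, closure_le]
    rintro _ ⟨i, hi, rfl⟩
    exact ⟨bD b i, by
      change (bD b i : L × K × K × K).1 = B i
      rw [coe_bD b hi]⟩
  · change π ((ev (lt (bD b) 7) w1 : Bound.S b 7) : L × K × K × K).1 = 1
    rw [coe_ev, e0, ex, x1]
  · change π ((ev (lt (bD b) 7) w2 : Bound.S b 7) : L × K × K × K).1 = 1
    rw [coe_ev, e0, ex, x2]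
  · change ((ev (lt (bD b) 7) w1 : Bound.S b 7) : L × K × K × K).2.1 = 1
    rw [coe_ev, e1, a1]
  · change ((ev (lt (bD b) 7) w1 : Bound.S b 7) : L × K × K × K).2.2.1 = n
    rw [coe_ev, e2, a2]
  · change ((ev (lt (bD b) 7) w1 : Bound.S b 7) : L × K × K × K).2.2.2 = n
    rw [coe_ev, e3, a3]
  · change ((ev (lt (bD b) 7) w2 : Bound.S b 7) : L × K × K × K).2.1 = n
    rw [coe_ev, e1, c1]
  · change ((ev (lt (bD b) 7) w2 : Bound.S b 7) : L × K × K × K).2.2.1 = n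
    rw [coe_ev, e2, c2]
  · change ((ev (lt (bD b) 7) w2 : Bound.S b 7) : L × K × K × K).2.2.2 = 1
    rw [coe_ev, e3, c3]
  · rw [hX]
    exact hcard
  · intro r
    change ((ev (lt (bD b) 7) r : Bound.S b 7) : L × K × K × K).1 = _
    rw [coe_ev, e0]
  · intro r
    change ((ev (lt (bD b) 7) r : Bound.S b 7) : L × K × K × K).2.1 = _
    rw [coe_ev, e1]
  · intro r
    change ((ev (lt (bD b) 7) r : Bound.S b 7) : L × K × K × K).2.2.1 = _
    rw [coe_ev, e2]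

/-- the word `c x c⁻¹ x⁻¹ w⁻¹` -/
def cw (c x w : List ℕ) : List ℕ := c ++ x ++ invw iv c ++ invw iv x ++ invw iv w

theorem ev_cw {G : Type*} [Group G] (b : ℕ → G) (c x w : List ℕ) :
    ev (lt b 7) (cw c x w) = ev (lt b 7) c * ev (lt b 7) x * (ev (lt b 7) c)⁻¹ * (ev (lt b 7) x)⁻¹ * (ev (lt b 7) w)⁻¹ := by
  rw [cw, ev_append, ev_append, ev_append, ev_append, ev_invw_iv, ev_invw_iv, ev_invw_iv]

/-- **Fusion.** -/
theorem fuse.{u, v, w} {L : Type u} {X : Type w} {K : Type v} [Group L] [Group X] [Finite X] [Group K] {π : L →* X}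
    (hπ : Cov π) {x : ℕ → X} {k1 k2 k3 : ℕ → K} (hx : ∀ i, Odd (orderOf (x i)))
    (hxgen : _root_.Subgroup.closure {y | ∃ i < 7, x i = y} = ⊤) (hrx : ∀ r ∈ Bound.rels, ev (lt x 7) r = 1)
    (hokr : ∀ r ∈ Bound.rels, okr [] r = true)
    (h1 : ∀ r ∈ Bound.rels, ev (lt k1 7) r = 1)
    (h2 : ∀ r ∈ Bound.rels, ev (lt k2 7) r = 1) (h3 : ∀ r ∈ Bound.rels, ev (lt k3 7) r = 1)
    {n : K} (nn : n * n = 1) (hn : n ≠ 1)
    (ncomm : ∀ k, n * k = k * n) {w1 w2 : List ℕ} (x1 : ev (lt x 7) w1 = 1) (x2 : ev (lt x 7) w2 = 1)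
    (a1 : ev (lt k1 7) w1 = 1) (a2 : ev (lt k2 7) w1 = n) (a3 : ev (lt k3 7) w1 = n)
    (c1 : ev (lt k1 7) w2 = n) (c2 : ev (lt k2 7) w2 = n) (c3 : ev (lt k3 7) w2 = 1)
    (hX : Nat.card X = 174182400) {w0 d1 d2 : List ℕ}
    (p0 : ev (lt x 7) (cw d1 w0 w1) = 1) (p1 : ev (lt k1 7) (cw d1 w0 w1) = 1) (p2 : ev (lt k2 7) (cw d1 w0 w1) = 1)
    (r0 : ev (lt x 7) (cw d2 w0 w2) = 1) (r1 : ev (lt k1 7) (cw d2 w0 w2) = 1) (r2 : ev (lt k2 7) (cw d2 w0 w2) = 1)
    {y ζ : L} (hy : π y = ev (lt x 7) w0) (hζ : π ζ = 1) : IsConj y (y * ζ) := by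
  obtain ⟨B, hB, hBo⟩ := hπ.exists_lifts hx
  have hgen := hπ.closure_eq_top hB hxgen
  have hrel : ∀ r ∈ Bound.rels, ev (lt B 7) r = 1 := fun r hr =>
    hπ.ev_eq_one hB hBo (odd := []) (by simp) (hokr r hr) (hrx r hr)
  obtain ⟨D, _, _, S, hS, b, hp, hq1, hq2, hn1, hn2⟩ := exists_dat' π hπ.surj hB hgen hrel h1 h2 h3 nn hn ncomm x1 x2
    a1 a2 a3 c1 c2 c3 hX
  subst hS
  have ex : ∀ r, S.π (ev (lt B 7) r) = ev (lt x 7) r := by
    intro r
    rw [map_ev_lt]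
    congr 2
    funext i
    exact hB i
  have key : ∀ d w, ev (lt x 7) (cw d w0 w) = 1 → ev (lt k1 7) (cw d w0 w) = 1 → ev (lt k2 7) (cw d w0 w) = 1 →
      S.p (ev (lt b 7) d) * ev (lt B 7) w0 * (S.p (ev (lt b 7) d))⁻¹ = S.p (ev (lt b 7) w) * ev (lt B 7) w0 := by
    intro d w u0 u1 u2
    have hm : ev (lt b 7) (cw d w0 w) ∈ S.θ.ker := by
      show S.π (S.p _) = 1
      rw [hp, ex, u0]
    have h4 := S.eq_one_of_q hm (by rw [hq1, u1]) (by rw [hq2, u2])
    rw [ev_cw] at h4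
    have h5 := congrArg S.p h4
    simp only [map_mul, map_inv, map_one] at h5
    rw [hp w0] at h5
    rw [mul_inv_eq_one, mul_inv_eq_iff_eq_mul] at h5
    exact h5
  have k1' := key d1 w1 p0 p1 p2
  have k2' := key d2 w2 r0 r1 r2
  rw [← hn1] at k1'
  rw [← hn2] at k2'
  -- central
  have hc : ∀ z : L, S.π z = 1 → ∀ g, g * z = z * g := fun z hz g => mem_center_iff.1 (hπ.central hz) g
  -- `y = y₀ ζ'`
  obtain ⟨ζ', rfl⟩ : ∃ z, y = ev (lt B 7) w0 * z := ⟨(ev (lt B 7) w0)⁻¹ * y, by group⟩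
  have hζ' : S.π ζ' = 1 := by
    rw [map_mul, ex] at hy
    exact mul_eq_left.1 hy
  have fin : ∀ g z : L, S.π z = 1 → g * ev (lt B 7) w0 * g⁻¹ = z * ev (lt B 7) w0 →
      IsConj (ev (lt B 7) w0 * ζ') (ev (lt B 7) w0 * ζ' * z) := by
    intro g z hz h
    refine isConj_iff.2 ⟨g, ?_⟩
    calc g * (ev (lt B 7) w0 * ζ') * g⁻¹ = g * ev (lt B 7) w0 * (ζ' * g⁻¹) := by group
      _ = g * ev (lt B 7) w0 * (g⁻¹ * ζ') := by rw [hc ζ' hζ' g⁻¹]
      _ = (g * ev (lt B 7) w0 * g⁻¹) * ζ' := by group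
      _ = z * ev (lt B 7) w0 * ζ' := by rw [h]
      _ = z * (ev (lt B 7) w0 * ζ') := by group
      _ = ev (lt B 7) w0 * ζ' * z := (hc z hz _).symm
  obtain ⟨m, hm⟩ := S.psurj ζ
  have hmk : m ∈ S.θ.ker := by
    show S.π (S.p m) = 1
    rw [hm, hζ]
  have hz1 : S.π (S.p S.n1) = 1 := S.θ1
  have hz2 : S.π (S.p S.n2) = 1 := S.θ2
  rcases S.mem_ker hmk with h | h | h | h
  · rw [← hm, h, map_one, mul_one]
  · rw [← hm, h]
    exact fin _ _ hz1 k1'
  · rw [← hm, h]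
    exact fin _ _ hz2 k2'
  · rw [← hm, h]
    refine fin (S.p (ev (lt b 7) d1) * S.p (ev (lt b 7) d2)) _ (by rw [map_mul, map_mul, hz1, hz2, one_mul]) ?_
    calc S.p (ev (lt b 7) d1) * S.p (ev (lt b 7) d2) * ev (lt B 7) w0 *
          (S.p (ev (lt b 7) d1) * S.p (ev (lt b 7) d2))⁻¹
        = S.p (ev (lt b 7) d1) * (S.p (ev (lt b 7) d2) * ev (lt B 7) w0 * (S.p (ev (lt b 7) d2))⁻¹) *
          (S.p (ev (lt b 7) d1))⁻¹ := by group
      _ = S.p (ev (lt b 7) d1) * (S.p S.n2 * ev (lt B 7) w0) * (S.p (ev (lt b 7) d1))⁻¹ := by rw [k2']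
      _ = (S.p (ev (lt b 7) d1) * S.p S.n2) * ev (lt B 7) w0 * (S.p (ev (lt b 7) d1))⁻¹ := by group
      _ = (S.p S.n2 * S.p (ev (lt b 7) d1)) * ev (lt B 7) w0 * (S.p (ev (lt b 7) d1))⁻¹ := by rw [hc _ hz2]
      _ = S.p S.n2 * (S.p (ev (lt b 7) d1) * ev (lt B 7) w0 * (S.p (ev (lt b 7) d1))⁻¹) := by group
      _ = S.p S.n2 * (S.p S.n1 * ev (lt B 7) w0) := by rw [k1']
      _ = (S.p S.n2 * S.p S.n1) * ev (lt B 7) w0 := by group
      _ = (S.p S.n1 * S.p S.n2) * ev (lt B 7) w0 := by rw [hc _ hz1]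
      _ = S.p (S.n1 * S.n2) * ev (lt B 7) w0 := by rw [map_mul]

end Cfsg.Agent.H815.QS
end

-- part: H815/QS/Data
section
/-!
# `2².Ω₈⁺(2)`: data (helper815)

`lw i`: the letters of `EEight.Id` as words in Siegel transformations; `w0`: the word of `x₀` (order 8); `d1`, `d2`: words of
the elements fusing the lifts of `x₀`; `tg`: root elements as words in the letters; `dat`: `(c, u, x, k)`: the class
representative with code `c` is `x k x⁻¹ k⁻¹` with `x = u x₀ u⁻¹`.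
-/

set_option autoImplicit false

namespace Cfsg.Agent.H815.QS

/-- the letters -/
def lw : ℕ → List (ℕ × ℕ)
  | 0 => [(1, 136), (16, 136)]
  | 1 => [(1, 78), (215, 79)]
  | 2 => [(1, 138), (215, 92)]
  | 3 => [(2, 136), (32, 136)]
  | 4 => [(2, 140), (170, 38)]
  | 5 => [(1, 136), (215, 94)]
  | 6 => [(4, 138), (66, 138)]
  | _ => []

/-- the word of `x₀` -/
def w0 : List ℕ := [7, 1, 9, 11]

/-- `x₀` in Siegel transformations -/
def s0 : List (ℕ × ℕ) := [(16, 74), (171, 34), (240, 79)]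

/-- the fusing words -/
def d1 : List ℕ := [5, 1, 9, 5, 11, 1, 5, 7, 2, 11, 8, 6, 2, 5, 0, 10, 4, 8, 0, 4]

/-- the fusing words -/
def d2 : List ℕ := [0, 5, 1, 11, 7, 2, 7, 11, 1, 13, 7, 3, 11, 6, 12, 4, 0, 10, 8, 3, 6, 4, 0, 10, 2, 6, 0, 4]

/-- root elements in the letters -/
def tg : List ((ℕ × ℕ) × List ℕ) := [((1, 32), [7, 2, 11, 7, 0, 10, 6, 3, 4, 0]),
  ((2, 64), [7, 3, 11, 1, 7, 2, 7, 9, 11, 1, 5, 13, 7, 3, 10, 3, 6, 12, 4, 0, 10, 8, 6, 4, 1, 10, 2, 6]),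
  ((4, 128), [7, 9, 11, 1, 5, 2, 7, 9, 4, 11, 1, 5, 13, 7, 3, 10, 3, 6, 12, 4, 0, 10, 5, 8, 6, 3, 4, 0, 10]),
  ((4, 8), [3, 0, 5, 7, 3, 9, 5, 0, 11, 1, 5, 1, 11, 6, 13, 7, 10, 2, 6, 12, 0, 10, 5, 8, 6, 1, 4, 2]),
  ((16, 32), [7, 10, 3, 7, 10, 6, 3, 4])]

/-- the class representatives -/
def dat : List (ℕ × List (ℕ × ℕ) × List (ℕ × ℕ) × List (ℕ × ℕ)) := [
  (12979446098949527772, [(193, 121), (74, 185), (9, 244)], [(56, 141), (32, 73), (123, 54)], [(134, 61), (48, 84), (208, 94)]),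
  (874024687547986692, [(52, 193), (16, 78), (222, 23)], [(6, 139), (103, 21), (14, 118)], [(204, 17), (115, 128), (126, 160)]),
  (8909669952309512282, [(18, 198), (8, 96), (132, 76)], [(2, 153), (104, 189), (18, 41)], [(80, 167), (66, 146), (1, 160)]),
  (9304684600192533888, [(5, 216), (7, 48), (88, 29)], [(14, 212), (111, 27), (7, 227)], [(102, 188), (48, 67), (146, 29)]),
  (3723052490355125759, [(148, 71), (6, 113), (45, 218)], [(66, 182), (126, 163), (88, 169)], [(146, 70), (60, 192), (157, 86)]),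
  (13332730836972322104, [(80, 168), (7, 51), (22, 228)], [(5, 121), (48, 212), (111, 131)], [(186, 107), (222, 68), (11, 230)]),
  (4337868515354672176, [(18, 167), (246, 84), (6, 16)], [(44, 197), (56, 141), (26, 68)], [(74, 176), (189, 94), (32, 209)]),
  (3248788740302259074, [(24, 195), (135, 98), (194, 83)], [(192, 47), (123, 39), (150, 76)], [(15, 165), (72, 150), (6, 115)]),
  (16216125171541469054, [(7, 80), (133, 86), (217, 58)], [(175, 29), (33, 86), (51, 196)], [(93, 137), (73, 175), (90, 181)]),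
  (7393056770562448293, [(240, 53), (6, 226), (129, 71)], [(126, 190), (88, 23), (219, 81)], [(66, 175)]),
  (9458579216561078530, [(117, 141), (88, 155), (80, 34)], [(111, 130), (105, 152), (59, 21)], [(3, 112)]),
  (9250710930311120385, [(255, 106), (133, 38), (180, 58)], [(8, 113), (28, 198), (102, 178)], [(190, 43), (132, 54), (126, 19)]),
  (1123939957377974676, [(7, 217), (67, 151)], [(80, 58), (112, 160), (95, 129)], [(36, 132), (52, 152), (73, 154)]),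
  (439924361429221765, [(75, 140), (103, 43), (2, 65)], [(210, 58), (1, 234), (5, 136)], [(240, 53), (18, 233), (102, 61)]),
  (6914593524071409975, [(12, 212), (56, 91), (93, 184)], [(97, 161), (11, 55), (36, 144)], [(225, 31), (66, 136), (41, 94)]),
  (8664961940922890768, [(18, 107), (174, 57), (56, 222)], [(103, 19), (118, 161), (75, 50)], [(75, 143), (123, 17), (117, 188)]),
  (13970202247726389824, [(157, 99), (103, 42), (255, 27)], [(245, 127), (5, 216), (18, 136)], [(237, 50), (10, 245), (179, 58)]),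
  (9386325238037070529, [(243, 94), (96, 175), (245, 35)], [(4, 42), (118, 139), (95, 167)], [(22, 238), (125, 46)]),
  (13007762571504984152, [(85, 133), (222, 83), (30, 96)], [(245, 107), (51, 21), (80, 42)], [(3, 205), (194, 122), (13, 39)]),
  (12309099740744352360, [(155, 106), (15, 55), (7, 49)], [(148, 81), (120, 61), (204, 71)], [(6, 154), (93, 34)]),
  (2719792085373938565, [(103, 142), (171, 122), (72, 57)], [(126, 159), (120, 19), (170, 34)], [(22, 33), (90, 160)]),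
  (7531009797546387957, [(164, 76), (7, 9), (20, 71)], [(164, 53), (230, 50), (190, 25)], [(10, 160), (66, 152), (90, 43)]),
  (9777231119245115652, [(33, 65), (213, 31)], [(176, 89), (15, 166), (30, 198)], [(249, 27), (65, 180), (105, 162), (234, 17)]),
  (17296911895783626239, [(10, 19), (225, 106), (16, 206)], [(2, 205), (90, 21), (255, 27)], [(13, 147), (75, 47), (148, 29)]),
  (1639628439323285709, [(64, 25), (193, 116), (93, 49)], [(7, 83), (24, 100), (222, 42)], [(5, 81), (150, 46), (3, 56)]),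
  (7987111359971833808, [(41, 202), (97, 149), (7, 51)], [(194, 42), (2, 24), (60, 203)], [(75, 190), (117, 188), (179, 71)]),
  (7627227057152119006, [(36, 218), (190, 47), (8, 18)], [(118, 47), (32, 69), (80, 181)], [(164, 121), (123, 140), (52, 206)]),
  (2637298061044299887, [(66, 153), (170, 61), (97, 21)], [(75, 145), (2, 205), (65, 42)], [(8, 85), (63, 134), (110, 154)]),
  (9383397192032637586, [(111, 42), (80, 58), (128, 50)], [(125, 189), (40, 219), (95, 134)], [(59, 130), (3, 200), (215, 53)]),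
  (15912856173871448535, [(125, 158), (120, 143), (1, 128)], [(189, 89), (73, 186), (183, 114)], [(217, 76), (157, 19), (171, 79)]),
  (11547370252164946529, [(252, 114), (194, 119), (134, 23)], [(111, 49), (219, 19), (155, 46)], [(24, 66), (118, 21), (192, 46)]),
  (8678572046609555062, [(192, 113), (14, 97), (255, 108)], [(51, 17), (217, 49), (157, 91)], [(13, 35), (245, 50)]),
  (393773000931835474, [(45, 19), (230, 119)], [(2, 209), (10, 165), (185, 49)], [(5, 250), (95, 53), (72, 49)]),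
  (325699563250943551, [(63, 217), (13, 85), (115, 47)], [(129, 27), (63, 69), (159, 39)], [(55, 198), (175, 124)]),
  (18056150458342153569, [(51, 200), (90, 145), (85, 135)], [(219, 78), (60, 195), (171, 89)], [(189, 122), (210, 76), (132, 77)]),
  (76281953585750465, [(252, 31), (56, 206), (87, 128)], [(133, 77), (72, 191), (10, 162)], [(245, 89), (150, 94), (18, 175)]),
  (13373731138556896585, [(97, 46), (67, 157), (15, 165)], [(104, 170), (96, 145), (24, 167)], [(1, 224), (183, 43), (88, 155)]),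
  (7963779238459973079, [(132, 127), (14, 180), (2, 156)], [(28, 169), (12, 54), (4, 19)], [(195, 39), (28, 198), (246, 91)]),
  (7351944098296018140, [(65, 163), (120, 185), (117, 156)], [(4, 137), (146, 29), (67, 21)], [(10, 163), (217, 19)])]

end Cfsg.Agent.H815.QS
end

-- part: H815/QS/OEight
section
/-!
# `2².Ω₈⁺(2)` (helper815)

Every element of every perfect central extension of `Ω₈⁺(2)` by a 2-group is a commutator.
-/

set_option autoImplicit false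
set_option maxRecDepth 100000

namespace Cfsg.Agent.H815.QS

open Subgroup Cfsg.Agent.SporadicRecognition.CosetCert Cfsg.Agent.SporadicRecognition.CosetCertHyp
open Cfsg.Agent.KFacts.OddLift.Basic Cfsg.Agent.OddHalf.D9.EEight Cfsg.Agent.OddHalf.D9.EEight.Id
open Cfsg.Agent.OddHalf.D9.EEight.Id.Core Cfsg.Agent.OddHalf.D9.EEight.Id.Homs Cfsg.Agent.OddHalf.D9.EEight.Id.HomData
open Cfsg.Agent.StdO8.Model Cfsg.Agent.StdO8.Code Cfsg.Agent.StdO8.Aut
open Cfsg.Agent.H777.Ore (IsC AllC)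

/-! ### The letters -/

/-- the letters in `Om` -/
noncomputable def xl (i : ℕ) : Om := word (lw i)

/-- the Siegel word of a word in the letters -/
def sw : List ℕ → List (ℕ × ℕ)
  | [] => []
  | y :: r => (if y % 2 = 0 then lw (y / 2) else (lw (y / 2)).reverse) ++ sw r

theorem ev_xl {r : List ℕ} (h : (r.all fun y => Nat.blt y 14) = true) : _root_.Cfsg.Agent.SporadicRecognition.CosetCert.ev (lt xl 7) r = word (sw r) := by
  induction r with
  | nil => rfl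
  | cons y r ih =>
    rw [List.all_cons, Bool.and_eq_true] at h
    have hy : y < 14 := Nat.le_of_ble_eq_true h.1
    rw [ev_cons, ih h.2, sw, word_append]
    congr 1
    by_cases h2 : y % 2 = 0
    · rw [lt_even xl 7 (by omega) h2, if_pos h2, xl]
    · rw [lt_odd xl 7 (by omega) (by omega), if_neg h2, word_reverse, xl]

/-- the word is trivial in `Om` -/
def triv (r : List ℕ) : Bool := (r.all fun y => Nat.blt y 14) && same (sw r) []

theorem ev_triv {r : List ℕ} (h : triv r = true) : _root_.Cfsg.Agent.SporadicRecognition.CosetCert.ev (lt xl 7) r = 1 := by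
  rw [triv, Bool.and_eq_true] at h
  rw [ev_xl h.1, word_eq h.2, word_nil]

private theorem _root_.Cfsg.Agent.KO9836bcc.e0.{ku, kv} {α : Type kv} {M : List α → Sort ku} (φ : ∀ l, M l) {z : M List.nil} {s : ∀ a l, M l → M (List.cons a l)} (h0 : φ List.nil = z) (hs : ∀ a l, φ (List.cons a l) = s a l (φ l)) (l : List α) : φ l = @List.rec α M z s l := List.rec h0 (fun a l ih => (hs a l).trans (congrArg (s a l) ih)) l
private noncomputable def _root_.Cfsg.Agent.KO9836bcc.k1.{ku0} : type_of% @List.all.{ku0} := @(fun x0 x1 x2 => @List.rec.{(ku0+1), ku0} @x0 @(fun x3 => (@x0 → @Bool) → @Bool) @(fun x3 => @Bool.true) @(fun x3 x4 x5 x6 => @Bool.rec.{1} @(fun x7 => @Bool) @Bool.false (@x5 @x6) (@x6 @x3)) @x1 @x2)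
private theorem _root_.Cfsg.Agent.KO9836bcc.e1.{ku0} : @List.all.{ku0} = @_root_.Cfsg.Agent.KO9836bcc.k1.{ku0} := by delta _root_.Cfsg.Agent.KO9836bcc.k1; funext a0 a1 a2; refine (congrFun (_root_.Cfsg.Agent.KO9836bcc.e0 (fun a1 a2 => @List.all.{ku0} a0 a1 a2) ?_ (fun c0 c1 => ?_) a1) a2 :) <;> (rfl')
private noncomputable def _root_.Cfsg.Agent.KO9836bcc.oEq.{ku} (α : Sort ku) (a b : Nat) (f t : α) : α := @Decidable.rec (a = b) (fun _ => α) (fun _ => f) (fun _ => t) (Nat.decEq a b)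
private noncomputable def _root_.Cfsg.Agent.KO9836bcc.k2.{ku} (α : Sort ku) (a b : Nat) (f t : α) : α := @Bool.rec (fun _ => α) f t (Nat.beq a b)
private theorem _root_.Cfsg.Agent.KO9836bcc.e2.{ku} : @_root_.Cfsg.Agent.KO9836bcc.oEq.{ku} = @_root_.Cfsg.Agent.KO9836bcc.k2.{ku} := funext fun α => funext fun a => funext fun b => funext fun f => funext fun t => by delta _root_.Cfsg.Agent.KO9836bcc.oEq _root_.Cfsg.Agent.KO9836bcc.k2; cases h : Nat.beq a b <;> cases Nat.decEq a b <;> rename_i g <;> first | rfl | exact absurd g (Nat.ne_of_beq_eq_false h) | exact absurd (Nat.eq_of_beq_eq_true h) g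
private noncomputable def _root_.Cfsg.Agent.KO9836bcc.oB.{ku} (α : Sort ku) (c : Bool) (f t : α) : α := @Decidable.rec (c = true) (fun _ => α) (fun _ => f) (fun _ => t) (instDecidableEqBool c true)
private noncomputable def _root_.Cfsg.Agent.KO9836bcc.k3.{ku} (α : Sort ku) (c : Bool) (f t : α) : α := @Bool.rec (fun _ => α) f t c
private theorem _root_.Cfsg.Agent.KO9836bcc.e3.{ku} : @_root_.Cfsg.Agent.KO9836bcc.oB.{ku} = @_root_.Cfsg.Agent.KO9836bcc.k3.{ku} := funext fun α => funext fun c => funext fun f => funext fun t => by cases c <;> rfl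
private noncomputable def _root_.Cfsg.Agent.KO9836bcc.k6 : (by first | exact type_of% @Cfsg.Agent.StdO8.Code.xn | exact Unit : Sort _) := by first | (refine @Subtype.val _ (fun g => @Cfsg.Agent.StdO8.Code.xn = @g) (@Subtype.mk _ _ (@(fun x0 x1 x2 => @Nat.xor (@Nat.xor @x2 (@Nat.xor (@Cfsg.Agent.KO9836bcc.k3.{1} ℕ (@Cfsg.Agent.StdO8.Code.Bn @x0 @x2) (nat_lit 0) @x1) (@Cfsg.Agent.KO9836bcc.k3.{1} ℕ (@Cfsg.Agent.StdO8.Code.Bn @x1 @x2) (nat_lit 0) @x0))) (@Cfsg.Agent.KO9836bcc.k3.{1} ℕ (@Bool.rec.{1} @(fun x3 => @Bool) @Bool.false (@Cfsg.Agent.StdO8.Code.Bn @x0 @x2) (@Cfsg.Agent.StdO8.Code.qn @x1)) (nat_lit 0) @x0))) ?_); rewrite [← Cfsg.Agent.KO9836bcc.e3.{1}]; (try delta Cfsg.Agent.StdO8.Code.xn); (try generalize @Cfsg.Agent.StdO8.Code.Bn = g0); (try generalize @Cfsg.Agent.StdO8.Code.qn = g1); rfl') | exact @Cfsg.Agent.StdO8.Code.xn | exact ()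
private theorem _root_.Cfsg.Agent.KO9836bcc.e6 : (by first | exact @Cfsg.Agent.StdO8.Code.xn = @_root_.Cfsg.Agent.KO9836bcc.k6 | exact True : Prop) := by first | (delta _root_.Cfsg.Agent.KO9836bcc.k6; exact @Subtype.property _ (fun g => @Cfsg.Agent.StdO8.Code.xn = @g) _) | rfl | trivial
private noncomputable def _root_.Cfsg.Agent.KO9836bcc.k7 : (by first | exact type_of% @Cfsg.Agent.StdO8.Code.ev | exact Unit : Sort _) := by first | (refine @Subtype.val _ (fun g => @Cfsg.Agent.StdO8.Code.ev = @g) (@Subtype.mk _ _ (@(fun x0 x1 => @List.rec.{1, 0} (ℕ × ℕ) @(fun x2 => ℕ → ℕ) @(fun x2 => @x2) @(fun x2 x3 x4 x5 => @Cfsg.Agent.KO9836bcc.k6 (@Prod.fst.{0, 0} _ _ @x2) (@Prod.snd.{0, 0} _ _ @x2) (@x4 @x5)) @x0 @x1)) ?_); rewrite [← Cfsg.Agent.KO9836bcc.e6]; funext a0 a1; refine (congrFun (_root_.Cfsg.Agent.KO9836bcc.e0 (fun a0 a1 => @Cfsg.Agent.StdO8.Code.ev a0 a1) ?_ (fun c0 c1 => ?_) a0) a1 :) <;> ((try delta Cfsg.Agent.StdO8.Code.ev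 Cfsg.Agent.StdO8.Code.ev._f); (try generalize @Cfsg.Agent.StdO8.Code.xn = g0); rfl')) | exact @Cfsg.Agent.StdO8.Code.ev | exact ()
private theorem _root_.Cfsg.Agent.KO9836bcc.e7 : (by first | exact @Cfsg.Agent.StdO8.Code.ev = @_root_.Cfsg.Agent.KO9836bcc.k7 | exact True : Prop) := by first | (delta _root_.Cfsg.Agent.KO9836bcc.k7; exact @Subtype.property _ (fun g => @Cfsg.Agent.StdO8.Code.ev = @g) _) | rfl | trivial
private noncomputable def _root_.Cfsg.Agent.KO9836bcc.k8 : (by first | exact type_of% @Cfsg.Agent.StdO8.Code.ok | exact Unit : Sort _) := by first | (refine @Subtype.val _ (fun g => @Cfsg.Agent.StdO8.Code.ok = @g) (@Subtype.mk _ _ (@(fun x0 => @Bool.rec.{1} @(fun x1 => @Bool) @Bool.false (@Bool.rec.{1} @(fun x1 => @Bool) @Bool.true @Bool.false (@Cfsg.Agent.StdO8.Code.Bn (@Prod.fst.{0, 0} _ _ @x0) (@Prod.snd.{0, 0} _ _ @x0))) (@Bool.rec.{1} @(fun x1 => @Bool) @Bool.true @Bool.false (@Cfsg.Agent.StdO8.Code.qn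 (@Prod.fst.{0, 0} _ _ @x0))))) ?_); (try delta Cfsg.Agent.StdO8.Code.ok); (try generalize @Cfsg.Agent.StdO8.Code.Bn = g0); (try generalize @Cfsg.Agent.StdO8.Code.qn = g1); rfl') | exact @Cfsg.Agent.StdO8.Code.ok | exact ()
private theorem _root_.Cfsg.Agent.KO9836bcc.e8 : (by first | exact @Cfsg.Agent.StdO8.Code.ok = @_root_.Cfsg.Agent.KO9836bcc.k8 | exact True : Prop) := by first | (delta _root_.Cfsg.Agent.KO9836bcc.k8; exact @Subtype.property _ (fun g => @Cfsg.Agent.StdO8.Code.ok = @g) _) | rfl | trivial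
private noncomputable def _root_.Cfsg.Agent.KO9836bcc.k9 : (by first | exact type_of% @Cfsg.Agent.StdO8.Code.same | exact Unit : Sort _) := by first | (refine @Subtype.val _ (fun g => @Cfsg.Agent.StdO8.Code.same = @g) (@Subtype.mk _ _ (@(fun x0 x1 => @Bool.rec.{1} @(fun x2 => @Bool) @Bool.false (@Cfsg.Agent.KO9836bcc.k1.{0} _ @Cfsg.Agent.StdO8.Code.basis @(fun x2 => @Cfsg.Agent.KO9836bcc.k2.{1} @Bool (@Cfsg.Agent.KO9836bcc.k7 @x0 @x2) (@Cfsg.Agent.KO9836bcc.k7 @x1 @x2) @Bool.false @Bool.true)) (@Bool.rec.{1} @(fun x2 => @Bool) @Bool.false (@Cfsg.Agent.KO9836bcc.k1.{0} _ @x1 @Cfsg.Agent.KO9836bcc.k8) (@Cfsg.Agent.KO9836bcc.k1.{0} _ @x0 @Cfsg.Agent.KO9836bcc.k8)))) ?_); rewrite [← Cfsg.Agent.KO9836bcc.e8, ← Cfsg.Agent.KO9836bcc.e7, ← Cfsg.Agent.KO9836bcc.e2.{1}, ← Cfsg.Agent.KO9836bcc.e1.{0}]; (try delta Cfsg.Agent.StdO8.Code.same); (try generalize @Cfsg.Agent.StdO8.Code.basis = g0); (try generalize @Cfsg.Agent.StdO8.Code.ev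 = g1); (try generalize @Cfsg.Agent.StdO8.Code.ok = g2); rfl') | exact @Cfsg.Agent.StdO8.Code.same | exact ()
private theorem _root_.Cfsg.Agent.KO9836bcc.e9 : (by first | exact @Cfsg.Agent.StdO8.Code.same = @_root_.Cfsg.Agent.KO9836bcc.k9 | exact True : Prop) := by first | (delta _root_.Cfsg.Agent.KO9836bcc.k9; exact @Subtype.property _ (fun g => @Cfsg.Agent.StdO8.Code.same = @g) _) | rfl | trivial
private noncomputable def _root_.Cfsg.Agent.KO9836bcc.k10.{ku0} : type_of% @List.append.{ku0} := @(fun x0 x1 x2 => @List.rec.{(ku0+1), ku0} @x0 @(fun x3 => (@List.{ku0} @x0) → @List.{ku0} @x0) @(fun x3 => @x3) @(fun x3 x4 x5 x6 => @x3 :: (@x5 @x6)) @x1 @x2)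
private theorem _root_.Cfsg.Agent.KO9836bcc.e10.{ku0} : @List.append.{ku0} = @_root_.Cfsg.Agent.KO9836bcc.k10.{ku0} := by delta _root_.Cfsg.Agent.KO9836bcc.k10; funext a0 a1 a2; refine (congrFun (_root_.Cfsg.Agent.KO9836bcc.e0 (fun a1 a2 => @List.append.{ku0} a0 a1 a2) ?_ (fun c0 c1 => ?_) a1) a2 :) <;> (rfl')
private noncomputable def _root_.Cfsg.Agent.KO9836bcc.k11.{ku0} : type_of% @List.reverseAux.{ku0} := @(fun x0 x1 x2 => @List.rec.{(ku0+1), ku0} @x0 @(fun x3 => (@List.{ku0} @x0) → @List.{ku0} @x0) @(fun x3 => @x3) @(fun x3 x4 x5 x6 => @x5 (@x3 :: @x6)) @x1 @x2)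
private theorem _root_.Cfsg.Agent.KO9836bcc.e11.{ku0} : @List.reverseAux.{ku0} = @_root_.Cfsg.Agent.KO9836bcc.k11.{ku0} := by delta _root_.Cfsg.Agent.KO9836bcc.k11; funext a0 a1 a2; refine (congrFun (_root_.Cfsg.Agent.KO9836bcc.e0 (fun a1 a2 => @List.reverseAux.{ku0} a0 a1 a2) ?_ (fun c0 c1 => ?_) a1) a2 :) <;> (rfl')
private noncomputable def _root_.Cfsg.Agent.KO9836bcc.k12 : type_of% @Nat.decEq := @(fun x0 x1 => @Bool.rec.{1} @(fun x2 => (@Eq.{1} _ (@Nat.beq @x0 @x1) @x2) → @Decidable (@Eq.{1} _ @x0 @x1)) @(fun x2 => @Decidable.isFalse _ (@Nat.ne_of_beq_eq_false _ _ @x2)) @(fun x2 => @Decidable.isTrue _ (@Nat.eq_of_beq_eq_true _ _ @x2)) (@Nat.beq @x0 @x1) (@Eq.refl.{1} _ (@Nat.beq @x0 @x1)))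
private theorem _root_.Cfsg.Agent.KO9836bcc.e12 : @Nat.decEq = @_root_.Cfsg.Agent.KO9836bcc.k12 := by delta _root_.Cfsg.Agent.KO9836bcc.k12; rfl'
private noncomputable def _root_.Cfsg.Agent.KO9836bcc.k13 : (by first | exact type_of% @Cfsg.Agent.H815.QS.lw | exact Unit : Sort _) := by first | (refine @Subtype.val _ (fun g => @Cfsg.Agent.H815.QS.lw = @g) (@Subtype.mk _ _ (@(fun x0 => @Decidable.rec.{1} _ @(fun x1 => @List.{0} (ℕ × ℕ)) @(fun x1 => @Decidable.rec.{1} _ @(fun x2 => @List.{0} (ℕ × ℕ)) @(fun x2 => @Decidable.rec.{1} _ @(fun x3 => @List.{0} (ℕ × ℕ)) @(fun x3 => @Decidable.rec.{1} _ @(fun x4 => @List.{0} (ℕ × ℕ)) @(fun x4 => @Decidable.rec.{1} _ @(fun x5 => @List.{0} (ℕ × ℕ)) @(fun x5 => @Decidable.rec.{1} _ @(fun x6 => @List.{0} (ℕ × ℕ)) @(fun x6 => @Decidable.rec.{1} _ @(fun x7 => @List.{0} (ℕ × ℕ)) @(fun x7 => []) @(fun x7 => @Eq.rec.{1, 1} ℕ (nat_lit 6) @(fun x8 x9 => @List.{0} (ℕ × ℕ)) (((nat_lit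 4, nat_lit 138)) :: (((nat_lit 66, nat_lit 138)) :: [])) @x0 (@Eq.symm.{1} _ _ _ @x7)) (@Cfsg.Agent.KO9836bcc.k12 @x0 (nat_lit 6))) @(fun x6 => @Eq.rec.{1, 1} ℕ (nat_lit 5) @(fun x7 x8 => @List.{0} (ℕ × ℕ)) (((nat_lit 1, nat_lit 136)) :: (((nat_lit 215, nat_lit 94)) :: [])) @x0 (@Eq.symm.{1} _ _ _ @x6)) (@Cfsg.Agent.KO9836bcc.k12 @x0 (nat_lit 5))) @(fun x5 => @Eq.rec.{1, 1} ℕ (nat_lit 4) @(fun x6 x7 => @List.{0} (ℕ × ℕ)) (((nat_lit 2, nat_lit 140)) :: (((nat_lit 170, nat_lit 38)) :: [])) @x0 (@Eq.symm.{1} _ _ _ @x5)) (@Cfsg.Agent.KO9836bcc.k12 @x0 (nat_lit 4))) @(fun x4 => @Eq.rec.{1, 1} ℕ (nat_lit 3) @(fun x5 x6 => @List.{0} (ℕ × ℕ)) (((nat_lit 2, nat_lit 136)) :: (((nat_lit 32, nat_lit 136)) :: [])) @x0 (@Eq.symm.{1} _ _ _ @x4)) (@Cfsg.Agent.KO9836bcc.k12 @x0 (nat_lit 3))) @(fun x3 => @Eq.rec.{1, 1} ℕ (nat_lit 2) @(fun x4 x5 => @List.{0} (ℕ × ℕ)) (((nat_lit 1, nat_lit 138)) :: (((nat_lit 215, nat_lit 92)) ::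 [])) @x0 (@Eq.symm.{1} _ _ _ @x3)) (@Cfsg.Agent.KO9836bcc.k12 @x0 (nat_lit 2))) @(fun x2 => @Eq.rec.{1, 1} ℕ (nat_lit 1) @(fun x3 x4 => @List.{0} (ℕ × ℕ)) (((nat_lit 1, nat_lit 78)) :: (((nat_lit 215, nat_lit 79)) :: [])) @x0 (@Eq.symm.{1} _ _ _ @x2)) (@Cfsg.Agent.KO9836bcc.k12 @x0 (nat_lit 1))) @(fun x1 => @Eq.rec.{1, 1} ℕ (nat_lit 0) @(fun x2 x3 => @List.{0} (ℕ × ℕ)) (((nat_lit 1, nat_lit 136)) :: (((nat_lit 16, nat_lit 136)) :: [])) @x0 (@Eq.symm.{1} _ _ _ @x1)) (@Cfsg.Agent.KO9836bcc.k12 @x0 (nat_lit 0)))) ?_); rewrite [← Cfsg.Agent.KO9836bcc.e12]; rfl') | exact @Cfsg.Agent.H815.QS.lw | exact ()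
private theorem _root_.Cfsg.Agent.KO9836bcc.e13 : (by first | exact @Cfsg.Agent.H815.QS.lw = @_root_.Cfsg.Agent.KO9836bcc.k13 | exact True : Prop) := by first | (delta _root_.Cfsg.Agent.KO9836bcc.k13; exact @Subtype.property _ (fun g => @Cfsg.Agent.H815.QS.lw = @g) _) | rfl | trivial
private noncomputable def _root_.Cfsg.Agent.KO9836bcc.k14 : (by first | exact type_of% @Cfsg.Agent.H815.QS.sw | exact Unit : Sort _) := by first | (refine @Subtype.val _ (fun g => @Cfsg.Agent.H815.QS.sw = @g) (@Subtype.mk _ _ (@(fun x0 => @List.rec.{1, 0} ℕ @(fun x1 => @List.{0} (ℕ × ℕ)) [] @(fun x1 x2 x3 => @Cfsg.Agent.KO9836bcc.k10.{0} _ (@Cfsg.Agent.KO9836bcc.k2.{1} (@List.{0} (ℕ × ℕ)) (@Nat.mod @x1 (nat_lit 2)) (nat_lit 0) (@Cfsg.Agent.KO9836bcc.k11.{0} _ (@Cfsg.Agent.KO9836bcc.k13 (@Nat.div @x1 (nat_lit 2))) []) (@Cfsg.Agent.KO9836bcc.k13 (@Nat.div @x1 (nat_lit 2)))) @x3) @x0)) ?_); rewrite [← Cfsg.Agent.KO9836bcc.e13, ← Cfsg.Agent.KO9836bcc.e11.{0},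 ← Cfsg.Agent.KO9836bcc.e2.{1}, ← Cfsg.Agent.KO9836bcc.e10.{0}]; funext a0; refine (_root_.Cfsg.Agent.KO9836bcc.e0 (fun a0 => @Cfsg.Agent.H815.QS.sw a0) ?_ (fun c0 c1 => ?_) a0 :) <;> ((try delta Cfsg.Agent.H815.QS.sw Cfsg.Agent.H815.QS.sw._f); (try generalize @Cfsg.Agent.H815.QS.lw = g0); rfl')) | exact @Cfsg.Agent.H815.QS.sw | exact ()
private theorem _root_.Cfsg.Agent.KO9836bcc.e14 : (by first | exact @Cfsg.Agent.H815.QS.sw = @_root_.Cfsg.Agent.KO9836bcc.k14 | exact True : Prop) := by first | (delta _root_.Cfsg.Agent.KO9836bcc.k14; exact @Subtype.property _ (fun g => @Cfsg.Agent.H815.QS.sw = @g) _) | rfl | trivial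
private noncomputable def _root_.Cfsg.Agent.KO9836bcc.k15 : (by first | exact type_of% @Cfsg.Agent.H815.QS.triv | exact Unit : Sort _) := by first | (refine @Subtype.val _ (fun g => @Cfsg.Agent.H815.QS.triv = @g) (@Subtype.mk _ _ (@(fun x0 => @Bool.rec.{1} @(fun x1 => @Bool) @Bool.false (@Cfsg.Agent.KO9836bcc.k9 (@Cfsg.Agent.KO9836bcc.k14 @x0) []) (@Cfsg.Agent.KO9836bcc.k1.{0} _ @x0 @(fun x1 => @Nat.ble (@Nat.succ @x1) (nat_lit 14))))) ?_); rewrite [← Cfsg.Agent.KO9836bcc.e1.{0}, ← Cfsg.Agent.KO9836bcc.e14, ← Cfsg.Agent.KO9836bcc.e9]; (try delta Cfsg.Agent.H815.QS.triv); (try generalize @Cfsg.Agent.StdO8.Code.same = g0); (try generalize @Cfsg.Agent.H815.QS.sw = g1); rfl') | exact @Cfsg.Agent.H815.QS.triv | exact ()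
private theorem _root_.Cfsg.Agent.KO9836bcc.e15 : (by first | exact @Cfsg.Agent.H815.QS.triv = @_root_.Cfsg.Agent.KO9836bcc.k15 | exact True : Prop) := by first | (delta _root_.Cfsg.Agent.KO9836bcc.k15; exact @Subtype.property _ (fun g => @Cfsg.Agent.H815.QS.triv = @g) _) | rfl | trivial

theorem rels_triv : (Bound.rels.all triv) = true := by (first | (rewrite [Cfsg.Agent.KO9836bcc.e1.{0}, Cfsg.Agent.KO9836bcc.e15]; decide +kernel) | decide +kernel)

theorem rel_xl : ∀ r ∈ Bound.rels, _root_.Cfsg.Agent.SporadicRecognition.CosetCert.ev (lt xl 7) r = 1 := fun r hr => ev_triv (List.all_eq_true.1 rels_triv r hr)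

theorem odd_xl (i : ℕ) : Odd (orderOf (xl i)) := by
  by_cases hi : i < 7
  · exact Odd.of_dvd_nat (by decide : Odd 3) (orderOf_dvd_of_pow_eq_one (Main.cube rel_xl hi))
  · have : xl i = 1 := by
      rw [xl]
      match i, hi with
      | 0, h => omega
      | 1, h => omega
      | 2, h => omega
      | 3, h => omega
      | 4, h => omega
      | 5, h => omega
      | 6, h => omega
      | (n + 7), _ => rfl
    rw [this, orderOf_one]
    exact odd_one

theorem tg_chk : (tg.all fun p => (p.2.all fun y => Nat.blt y 14) && same (sw p.2) [p.1]) = true := by decide +kernel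

theorem tgt_eq : Cfsg.Agent.H935.OreO8.tgt = tg.map Prod.fst := by decide +kernel

theorem closure_xl : _root_.Subgroup.closure {y | ∃ i < 7, xl i = y} = ⊤ := by
  apply Cfsg.Agent.H935.OreO8.five
  intro p hp
  rw [tgt_eq] at hp
  obtain ⟨t, ht, rfl⟩ := List.mem_map.1 hp
  have h := List.all_eq_true.1 tg_chk t ht
  rw [Bool.and_eq_true] at h
  rw [← word_single, ← word_eq h.2, ← ev_xl h.1]
  have h2 : ∀ r : List ℕ, _root_.Cfsg.Agent.SporadicRecognition.CosetCert.ev (lt xl 7) r ∈ _root_.Subgroup.closure {y | ∃ i < 7, xl i = y} := by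
    intro r
    induction r with
    | nil => exact one_mem _
    | cons y r ih => rw [ev_cons]; exact mul_mem (lt_mem _ _) ih
  exact h2 _

/-! ### Fusion -/

private noncomputable def _root_.Cfsg.Agent.KO9836bcc.k16 : type_of% @Bool.and := @(fun x0 x1 => @Bool.rec.{1} @(fun x2 => @Bool) @Bool.false @x1 @x0)
private theorem _root_.Cfsg.Agent.KO9836bcc.e16 : @Bool.and = @_root_.Cfsg.Agent.KO9836bcc.k16 := by delta _root_.Cfsg.Agent.KO9836bcc.k16; rfl'
private noncomputable def _root_.Cfsg.Agent.KO9836bcc.k17.{ku0} : type_of% @List.flatten.{ku0} := @(fun x0 x1 => @List.rec.{(ku0+1), ku0} (@List.{ku0} @x0) @(fun x2 => @List.{ku0} @x0) [] @(fun x2 x3 x4 => @Cfsg.Agent.KO9836bcc.k10.{ku0} _ @x2 @x4) @x1)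
private theorem _root_.Cfsg.Agent.KO9836bcc.e17.{ku0} : @List.flatten.{ku0} = @_root_.Cfsg.Agent.KO9836bcc.k17.{ku0} := by delta _root_.Cfsg.Agent.KO9836bcc.k17; rewrite [← Cfsg.Agent.KO9836bcc.e10.{ku0}]; funext a0 a1; refine (_root_.Cfsg.Agent.KO9836bcc.e0 (fun a1 => @List.flatten.{ku0} a0 a1) ?_ (fun c0 c1 => ?_) a1 :) <;> (rfl')
private theorem _root_.Cfsg.Agent.KO9836bcc.e18.{ku} {M : Nat → Sort ku} (φ : ∀ n, M n) {z : M Nat.zero} {s : ∀ n, M n → M (Nat.succ n)} (h0 : φ Nat.zero = z) (hs : ∀ n, φ (Nat.succ n) = s n (φ n)) (n : Nat) : φ n = @Nat.rec M z s n := Nat.rec h0 (fun n ih => (hs n).trans (congrArg (s n) ih)) n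
private noncomputable def _root_.Cfsg.Agent.KO9836bcc.k19.{ku0} : type_of% @List.replicate.{ku0} := @(fun x0 x1 x2 => @Nat.rec.{(ku0+1)} @(fun x3 => @x0 → @List.{ku0} @x0) @(fun x3 => []) @(fun x3 x4 x5 => @x5 :: (@x4 @x5)) @x1 @x2)
private theorem _root_.Cfsg.Agent.KO9836bcc.e19.{ku0} : @List.replicate.{ku0} = @_root_.Cfsg.Agent.KO9836bcc.k19.{ku0} := by delta _root_.Cfsg.Agent.KO9836bcc.k19; funext a0 a1 a2; refine (congrFun (_root_.Cfsg.Agent.KO9836bcc.e18 (fun a1 a2 => @List.replicate.{ku0} a0 a1 a2) ?_ (fun c0 => ?_) a1) a2 :) <;> (rfl')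
private noncomputable def _root_.Cfsg.Agent.KO9836bcc.k20.{ku0, ku1} : type_of% @List.map.{ku0, ku1} := @(fun x0 x1 x2 x3 => @List.rec.{(ku1+1), ku0} @x0 @(fun x4 => @List.{ku1} @x1) [] @(fun x4 x5 x6 => (@x2 @x4) :: @x6) @x3)
private theorem _root_.Cfsg.Agent.KO9836bcc.e20.{ku0, ku1} : @List.map.{ku0, ku1} = @_root_.Cfsg.Agent.KO9836bcc.k20.{ku0, ku1} := by delta _root_.Cfsg.Agent.KO9836bcc.k20; funext a0 a1 a2 a3; refine (_root_.Cfsg.Agent.KO9836bcc.e0 (fun a3 => @List.map.{ku0, ku1} a0 a1 a2 a3) ?_ (fun c0 c1 => ?_) a3 :) <;> (rfl')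
private noncomputable def _root_.Cfsg.Agent.KO9836bcc.k21 : (by first | exact type_of% @Cfsg.Agent.KFacts.OddLift.Basic.iv | exact Unit : Sort _) := by first | (refine @Subtype.val _ (fun g => @Cfsg.Agent.KFacts.OddLift.Basic.iv = @g) (@Subtype.mk _ _ (@(fun x0 => @Cfsg.Agent.KO9836bcc.k2.{1} ℕ (@Nat.mod @x0 (nat_lit 2)) (nat_lit 0) (@Nat.sub @x0 (nat_lit 1)) (@Nat.add @x0 (nat_lit 1)))) ?_); rewrite [← Cfsg.Agent.KO9836bcc.e2.{1}]; rfl') | exact @Cfsg.Agent.KFacts.OddLift.Basic.iv | exact ()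
private theorem _root_.Cfsg.Agent.KO9836bcc.e21 : (by first | exact @Cfsg.Agent.KFacts.OddLift.Basic.iv = @_root_.Cfsg.Agent.KO9836bcc.k21 | exact True : Prop) := by first | (delta _root_.Cfsg.Agent.KO9836bcc.k21; exact @Subtype.property _ (fun g => @Cfsg.Agent.KFacts.OddLift.Basic.iv = @g) _) | rfl | trivial
private noncomputable def _root_.Cfsg.Agent.KO9836bcc.k22 : (by first | exact type_of% @Cfsg.Agent.H815.QS.cw | exact Unit : Sort _) := by first | (refine @Subtype.val _ (fun g => @Cfsg.Agent.H815.QS.cw = @g) (@Subtype.mk _ _ (@(fun x0 x1 x2 => @Cfsg.Agent.KO9836bcc.k10.{0} _ (@Cfsg.Agent.KO9836bcc.k10.{0} _ (@Cfsg.Agent.KO9836bcc.k10.{0} _ (@Cfsg.Agent.KO9836bcc.k10.{0} _ @x0 @x1) (@Cfsg.Agent.KO9836bcc.k11.{0} _ (@Cfsg.Agent.KO9836bcc.k20.{0, 0} _ _ @Cfsg.Agent.KO9836bcc.k21 @x0) [])) (@Cfsg.Agent.KO9836bcc.k11.{0} _ (@Cfsg.Agent.KO9836bcc.k20.{0, 0} _ _ @Cfsg.Agent.KO9836bcc.k21 @x1) [])) (@Cfsg.Agent.KO9836bcc.k11.{0}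 _ (@Cfsg.Agent.KO9836bcc.k20.{0, 0} _ _ @Cfsg.Agent.KO9836bcc.k21 @x2) []))) ?_); rewrite [← Cfsg.Agent.KO9836bcc.e21, ← Cfsg.Agent.KO9836bcc.e20.{0, 0}, ← Cfsg.Agent.KO9836bcc.e11.{0}, ← Cfsg.Agent.KO9836bcc.e10.{0}]; (try delta Cfsg.Agent.H815.QS.cw Cfsg.Agent.SporadicRecognition.CosetCertHyp.invw); (try generalize @Cfsg.Agent.KFacts.OddLift.Basic.iv = g0); rfl') | exact @Cfsg.Agent.H815.QS.cw | exact ()
private theorem _root_.Cfsg.Agent.KO9836bcc.e22 : (by first | exact @Cfsg.Agent.H815.QS.cw = @_root_.Cfsg.Agent.KO9836bcc.k22 | exact True : Prop) := by first | (delta _root_.Cfsg.Agent.KO9836bcc.k22; exact @Subtype.property _ (fun g => @Cfsg.Agent.H815.QS.cw = @g) _) | rfl | trivial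

theorem chk_x : (triv w1 && triv w2 && triv (cw d1 w0 w1) && triv (cw d2 w0 w2)) = true := by (first | (delta Cfsg.Agent.OddHalf.D9.EEight.Id.Homs.w2; rewrite [Cfsg.Agent.KO9836bcc.e16, Cfsg.Agent.KO9836bcc.e15, Cfsg.Agent.KO9836bcc.e17.{0}, Cfsg.Agent.KO9836bcc.e19.{0}, Cfsg.Agent.KO9836bcc.e22]; decide +kernel) | decide +kernel)

theorem chk_t1 : (isOne T1 (cw d1 w0 w1) && isOne T1 (cw d2 w0 w2)) = true := by decide +kernel

theorem chk_t2 : (isOne T2 (cw d1 w0 w1) && isOne T2 (cw d2 w0 w2)) = true := by decide +kernel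

theorem card_Om' : Nat.card Om = 174182400 := by rw [Cfsg.Agent.StdO8.Uni.card_Om]; norm_num

instance : Finite Om := (Nat.card_pos_iff.1 (by rw [card_Om']; norm_num)).2

/-- **the lifts of `x₀` are conjugate** -/
theorem fuse0 {L : Type*} [Group L] {π : L →* Om} (hπ : Cov π) {y ζ : L} (hy : π y = word s0) (hζ : π ζ = 1) :
    IsConj y (y * ζ) := by
  have h0 := chk_x
  rw [Bool.and_eq_true, Bool.and_eq_true, Bool.and_eq_true] at h0
  have h1 := chk_t1
  rw [Bool.and_eq_true] at h1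
  have h2 := chk_t2
  rw [Bool.and_eq_true] at h2
  have hs : word s0 = _root_.Cfsg.Agent.SporadicRecognition.CosetCert.ev (lt xl 7) w0 := by
    rw [ev_xl (by decide +kernel)]
    exact word_eq (by decide +kernel)
  exact fuse hπ odd_xl closure_xl rel_xl Main.okr_rels rel1 rel2 rel3 Onto.neg_mul_neg Onto.neg_ne_one Onto.neg_comm
    (ev_triv h0.1.1.1) (ev_triv h0.1.1.2) w1_1 w1_2 w1_3 w2_1 w2_2 w2_3 card_Om'
    (ev_triv h0.1.2) (ev_of_isOne tab1 h1.1) (ev_of_isOne tab2 h2.1)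
    (ev_triv h0.2) (ev_of_isOne tab1 h1.2) (ev_of_isOne tab2 h2.2) (hy.trans hs) hζ

/-! ### The row -/

open Cfsg.Agent.H6.QO Cfsg.Agent.H51.Mult

theorem cov_of_pce {L : Type*} [Group L] [Finite L] {π : L →* Om} (hπ : PCE π) : Cov π := by
  have hno : ∀ r : ℕ, r.Prime → r ≠ 2 → NoCov r Om := by
    intro r hr hr2
    obtain ⟨e⟩ := Cfsg.Agent.StdO8.Model.exists_equiv (F := ZMod 2) (by rw [ZMod.card])
    exact (Cfsg.Agent.H63.Plus.noCov_odd_prime (F := ZMod 2) (l := 4) le_rfl hr hr2).congr e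
  exact ⟨hπ.surj, hπ.cen, Cfsg.Agent.H63.Asm.isPGroup_two hno hπ, hπ.perf⟩

/-- all lifts of `x` in perfect central extensions are fused -/
def Fus (x : Om) : Prop := ∀ (L : Type) [Group L] [Finite L] (π : L →* Om), PCE π →
  ∀ y ζ : L, π y = x → π ζ = 1 → IsConj y (y * ζ)

theorem Fus.map {x : Om} (h : Fus x) (φ : Om ≃* Om) : Fus (φ x) := by
  intro L _ _ π hπ y ζ hy hζ
  refine h L (φ.symm.toMonoidHom.comp π) (hπ.congr φ.symm) y ζ ?_ ?_
  · show φ.symm (π y) = x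
    rw [hy, MulEquiv.symm_apply_apply]
  · show φ.symm (π ζ) = 1
    rw [hζ, map_one]

theorem fus0 : Fus (word s0) := fun _ _ _ _ hπ _ _ hy hζ => fuse0 (cov_of_pce hπ) hy hζ

/-- the check of one class -/
def chk (t : ℕ × List (ℕ × ℕ) × List (ℕ × ℕ) × List (ℕ × ℕ)) : Bool :=
  same (t.2.2.1 ++ t.2.1) (t.2.1 ++ s0) && ((t.2.2.1 ++ t.2.2.2 ++ t.2.2.1.reverse ++ t.2.2.2.reverse).all ok &&
    (List.range 8).all fun j =>
      _root_.Cfsg.Agent.StdO8.Code.ev (t.2.2.1 ++ t.2.2.2 ++ t.2.2.1.reverse ++ t.2.2.2.reverse) (2 ^ j) == Cfsg.Agent.H612.Ore.col 8 t.1 j)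

private noncomputable def _root_.Cfsg.Agent.KO9836bcc.k23 : type_of% @List.range.loop := @(fun x0 x1 => @Nat.rec.{1} @(fun x2 => (@List.{0} ℕ) → @List.{0} ℕ) @(fun x2 => @x2) @(fun x2 x3 x4 => @x3 (@x2 :: @x4)) @x0 @x1)
private theorem _root_.Cfsg.Agent.KO9836bcc.e23 : @List.range.loop = @_root_.Cfsg.Agent.KO9836bcc.k23 := by delta _root_.Cfsg.Agent.KO9836bcc.k23; funext a0 a1; refine (congrFun (_root_.Cfsg.Agent.KO9836bcc.e18 (fun a0 a1 => @List.range.loop a0 a1) ?_ (fun c0 => ?_) a0) a1 :) <;> (rfl')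
private noncomputable def _root_.Cfsg.Agent.KO9836bcc.k29 : (by first | exact type_of% @Cfsg.Agent.H612.Ore.col | exact Unit : Sort _) := by first | (refine @Subtype.val _ (fun g => @Cfsg.Agent.H612.Ore.col = @g) (@Subtype.mk _ _ (@(fun x0 x1 x2 => @Nat.mod (@Nat.shiftRight @x1 (@Nat.mul @x0 @x2)) (@Nat.pow (nat_lit 2) @x0))) ?_); rfl') | exact @Cfsg.Agent.H612.Ore.col | exact ()
private theorem _root_.Cfsg.Agent.KO9836bcc.e29 : (by first | exact @Cfsg.Agent.H612.Ore.col = @_root_.Cfsg.Agent.KO9836bcc.k29 | exact True : Prop) := by first | (delta _root_.Cfsg.Agent.KO9836bcc.k29; exact @Subtype.property _ (fun g => @Cfsg.Agent.H612.Ore.col = @g) _) | rfl | trivial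
private noncomputable def _root_.Cfsg.Agent.KO9836bcc.k30 : (by first | exact type_of% @Cfsg.Agent.H815.QS.chk | exact Unit : Sort _) := by first | (refine @Subtype.val _ (fun g => @Cfsg.Agent.H815.QS.chk = @g) (@Subtype.mk _ _ (@(fun x0 => @Bool.rec.{1} @(fun x1 => @Bool) @Bool.false (@Bool.rec.{1} @(fun x1 => @Bool) @Bool.false (@Cfsg.Agent.KO9836bcc.k1.{0} _ (@Cfsg.Agent.KO9836bcc.k23 (nat_lit 8) []) @(fun x1 => @Cfsg.Agent.KO9836bcc.k2.{1} @Bool (@Cfsg.Agent.KO9836bcc.k7 (@Cfsg.Agent.KO9836bcc.k10.{0} _ (@Cfsg.Agent.KO9836bcc.k10.{0} _ (@Cfsg.Agent.KO9836bcc.k10.{0} _ (@Prod.fst.{0, 0} _ _ (@Prod.snd.{0, 0} _ _ (@Prod.snd.{0, 0} _ _ @x0))) (@Prod.snd.{0, 0} _ _ (@Prod.snd.{0, 0} _ _ (@Prod.snd.{0, 0} _ _ @x0)))) (@Cfsg.Agent.KO9836bcc.k11.{0} _ (@Prod.fst.{0, 0} _ _ (@Prod.snd.{0, 0} _ _ (@Prod.snd.{0, 0} _ _ @x0))) [])) (@Cfsg.Agent.KO9836bcc.k11.{0} _ (@Prod.snd.{0, 0} _ _ (@Prod.snd.{0, 0} _ _ (@Prod.snd.{0,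 0} _ _ @x0))) [])) (@Nat.pow (nat_lit 2) @x1)) (@Cfsg.Agent.KO9836bcc.k29 (nat_lit 8) (@Prod.fst.{0, 0} _ _ @x0) @x1) @Bool.false @Bool.true)) (@Cfsg.Agent.KO9836bcc.k1.{0} _ (@Cfsg.Agent.KO9836bcc.k10.{0} _ (@Cfsg.Agent.KO9836bcc.k10.{0} _ (@Cfsg.Agent.KO9836bcc.k10.{0} _ (@Prod.fst.{0, 0} _ _ (@Prod.snd.{0, 0} _ _ (@Prod.snd.{0, 0} _ _ @x0))) (@Prod.snd.{0, 0} _ _ (@Prod.snd.{0, 0} _ _ (@Prod.snd.{0, 0} _ _ @x0)))) (@Cfsg.Agent.KO9836bcc.k11.{0} _ (@Prod.fst.{0, 0} _ _ (@Prod.snd.{0, 0} _ _ (@Prod.snd.{0, 0} _ _ @x0))) [])) (@Cfsg.Agent.KO9836bcc.k11.{0} _ (@Prod.snd.{0, 0} _ _ (@Prod.snd.{0, 0} _ _ (@Prod.snd.{0, 0} _ _ @x0))) [])) @Cfsg.Agent.KO9836bcc.k8)) (@Cfsg.Agent.KO9836bcc.k9 (@Cfsg.Agent.KO9836bcc.k10.{0} _ (@Prod.fst.{0, 0} _ _ (@Prod.snd.{0, 0} _ _ (@Prod.snd.{0, 0} _ _ @x0))) (@Prod.fst.{0, 0} _ _ (@Prod.snd.{0, 0} _ _ @x0))) (@Cfsg.Agent.KO9836bcc.k10.{0} _ (@Prod.fst.{0, 0} _ _ (@Prod.snd.{0,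 0} _ _ @x0)) @Cfsg.Agent.H815.QS.s0)))) ?_); rewrite [← Cfsg.Agent.KO9836bcc.e9, ← Cfsg.Agent.KO9836bcc.e8, ← Cfsg.Agent.KO9836bcc.e29, ← Cfsg.Agent.KO9836bcc.e11.{0}, ← Cfsg.Agent.KO9836bcc.e10.{0}, ← Cfsg.Agent.KO9836bcc.e7, ← Cfsg.Agent.KO9836bcc.e2.{1}, ← Cfsg.Agent.KO9836bcc.e23, ← Cfsg.Agent.KO9836bcc.e1.{0}]; (try delta Cfsg.Agent.H815.QS.chk); (try generalize @Cfsg.Agent.StdO8.Code.ev = g0); (try generalize @Cfsg.Agent.H612.Ore.col = g1); (try generalize @Cfsg.Agent.StdO8.Code.ok = g2); (try generalize @Cfsg.Agent.StdO8.Code.same = g3); (try generalize @Cfsg.Agent.H815.QS.s0 = g4); rfl') | exact @Cfsg.Agent.H815.QS.chk | exact ()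
private theorem _root_.Cfsg.Agent.KO9836bcc.e30 : (by first | exact @Cfsg.Agent.H815.QS.chk = @_root_.Cfsg.Agent.KO9836bcc.k30 | exact True : Prop) := by first | (delta _root_.Cfsg.Agent.KO9836bcc.k30; exact @Subtype.property _ (fun g => @Cfsg.Agent.H815.QS.chk = @g) _) | rfl | trivial

theorem dat_chk : dat.all chk = true := by (first | (rewrite [Cfsg.Agent.KO9836bcc.e1.{0}, Cfsg.Agent.KO9836bcc.e30]; decide +kernel) | decide +kernel)

theorem dat_reps : Cfsg.Agent.H201.O8.reps.take 39 = dat.map Prod.fst := by decide +kernel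

/-- every nontrivial element is `x k x⁻¹ k⁻¹` with `x` fused -/
theorem exists_pair (g : Om) : ∃ x k : Om, g = x * k * x⁻¹ * k⁻¹ ∧ Fus x := by
  by_cases hg : g = 1
  · exact ⟨word s0, 1, by rw [hg]; group, fus0⟩
  obtain ⟨c, hc, h, y, hy, rfl⟩ := Cfsg.Agent.H201.O8.coverOm' hg
  rw [dat_reps] at hc
  obtain ⟨t, ht, rfl⟩ := List.mem_map.1 hc
  have h1 := List.all_eq_true.1 dat_chk t ht
  rw [chk, Bool.and_eq_true, Bool.and_eq_true] at h1
  obtain ⟨h2, h3, h4⟩ := h1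
  have e1 : y = word t.2.2.1 * word t.2.2.2 * (word t.2.2.1)⁻¹ * (word t.2.2.2)⁻¹ := by
    rw [← word_reverse, ← word_reverse, ← word_append, ← word_append, ← word_append]
    apply Subtype.ext
    apply eval_eq h3
    intro b hb
    obtain ⟨i, hi, rfl⟩ := Cfsg.Agent.H201.O8.mem_basis hb
    rw [hy i hi, eq_of_beq (List.all_eq_true.1 h4 i (List.mem_range.2 hi))]
  have e2 : word t.2.2.1 = word t.2.1 * word s0 * (word t.2.1)⁻¹ := by
    rw [eq_mul_inv_iff_mul_eq, ← word_append, ← word_append]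
    exact word_eq h2
  have hf : Fus (word t.2.2.1) := by
    rw [e2]
    exact fus0.map (MulAut.conj (word t.2.1))
  refine ⟨cj h (word t.2.2.1), cj h (word t.2.2.2), ?_, hf.map (cj h)⟩
  simp only [e1, map_mul, map_mul, map_mul, map_inv, map_inv]

/-- **`2².Ω₈⁺(2)`** -/
theorem rowA_Om : RowA Om := by
  intro L _ _ π hπ g
  obtain ⟨x, k, hg, hf⟩ := exists_pair (π g)
  obtain ⟨y, hy⟩ := hπ.surj x
  refine isC_of_pair (x := y) (k := k) hπ.surj hπ.cen (by simp only [hy, hg]) fun ζ hζ => ?_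
  exact hf L π hπ y ζ hy hζ

/-- **Row D2 of S2491, S2492.** -/
theorem rowA_pop82 (F : Type) [Field F] [Fintype F] (hF : Fintype.card F = 2) :
    RowA (Cfsg.POmega F (Cfsg.quadFormPlus 4 F)) := by
  obtain ⟨e⟩ := Cfsg.Agent.StdO8.Model.exists_equiv hF
  exact rowA_Om.congr e.symm

end Cfsg.Agent.H815.QS
end

-- part: H224/Ore/Tab
section
/-!
The weights of the roots outside the blocks `A_7` of `E_8` and `A_6` of `E_7` (S2443, S4171).

`wt8`, `wt7` : the exponents `∑ a ≥ b, ⟨r, α_{j a}^∨⟩` take two consecutive values; `ne8`, `ne7` : the products of the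
eigenvalues are not one.
-/

set_option autoImplicit false
set_option linter.unusedSectionVars false

namespace Cfsg.Agent.H224.Ore.Tab

open Cfsg.Lie Cfsg.Agent.ChevalleyStructure.RootVec Cfsg.Agent.Nodes.RGDChev Cfsg.Agent.H85.Ore
open Cfsg.Agent.H224.Ore.Zeta

/-- the exponents of the eigenvalues -/
def ex {m : ℕ} (c : Fin m → ℤ) (b : Fin (m + 1)) : ℤ := ∑ a : Fin m, if b ≤ a.castSucc then c a else 0

/-- two consecutive values -/
def Two {n : ℕ} (e : Fin n → ℤ) : Prop :=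
  ((∀ b, e b = 0 ∨ e b = 1) ∧ (∃ b, e b = 0) ∧ ∃ b, e b = 1) ∨
    ((∀ b, e b = -1 ∨ e b = 0) ∧ (∃ b, e b = -1) ∧ ∃ b, e b = 0)

instance {n : ℕ} (e : Fin n → ℤ) : Decidable (Two e) := by unfold Two; infer_instance

/-- the nodes of the block of `E_7` -/
def j7 : Fin 6 → Fin 7 := ![0, 2, 3, 4, 5, 6]

theorem wt7 : ∀ r < chevE7.nroots, (∃ k, k ∉ J7 ∧ vec chevE7 7 r k ≠ 0) → Two (ex fun a => chevE7.cartan (j7 a) r) := by
  unfold ex
  decide +kernel

theorem simple7 : ∀ a : Fin 6, r7 a.castSucc a.succ = chevE7.simple (j7 a) := by decide +kernel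

theorem Two.ne {K K' : Type*} [Field K] [Field K'] {i : K →+* K'} {m : ℕ} {ν : K} {p : Polynomial K}
    {lam : Fin (m + 1) → K'} (H : Zet i m ν p lam) {e : Fin (m + 1) → ℤ} (h : Two e) : ∏ b, lam b ^ e b ≠ 1 := by
  rcases h with ⟨h1, h2, h3⟩ | ⟨h1, h2, h3⟩
  · exact H.zprod e 0 (by simpa using h1) h2 (by simpa using h3)
  · exact H.zprod e (-1) (by simpa using h1) h2 (by simpa using h3)

end Cfsg.Agent.H224.Ore.Tab
end

-- part: H224/Ore/ESeven
section
/-!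
# `E₇(q)`, `q ≥ 3`: every element is a commutator (S2443), one class of the block `A₆` (S4171)

* `nf_all` : no fixed points for all conjugates of an element with characteristic polynomial `(X - ν) p` (any datum);
* `exists_oneClass7` : the block element of `E₇(K)`, `|K| ≥ 3`;
* `allC_E7` : `AllC (chevE7.group K)`.
-/

set_option autoImplicit false
set_option linter.unusedSectionVars false

namespace Cfsg.Agent.H224.Ore.ESeven

open CoxeterSystem Cfsg.Agent.ChevalleyStructure.CoxeterGeom Cfsg.Agent.Tits.Roots Cfsg.Agent.Tits.Core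
  Cfsg.Agent.Nodes.Reps Cfsg.Agent.Nodes.BNOf Cfsg.Agent.Nodes.RGDLib Cfsg.Agent.Nodes.Bruhat
  Cfsg.Agent.Nodes.OppDec Cfsg.Agent.Nodes.LeviDec Cfsg.Agent.Nodes.KindChev Cfsg.Agent.Nodes.ChevCls
  Cfsg.Agent.OddHalf.NI.Mult Cfsg.Agent.OddHalf.NI.ModelChev
open Cfsg.Lie Cfsg.Agent.ChevalleyStructure Cfsg.Agent.ChevalleyStructure.Elts
  Cfsg.Agent.ChevalleyStructure.RootVec Cfsg.Agent.ChevalleyStructure.NPerm
  Cfsg.Agent.ChevalleyStructure.CoxeterGeomTypes Cfsg.Agent.Nodes.RGDChev Cfsg.Agent.KFacts.RgdChevCoord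
open Cfsg.Agent.H162.GaussSL Cfsg.Agent.H162.GaussExc
open Cfsg.Agent.H928.Ore.Frame (NF LP)
open Cfsg.Agent.H777.Ore (IsC AllC I4 Inv4)
open Cfsg.Agent.H85.Ore (r7 J7 e7 tab7 rt7 exists_phi7 OneClass allC_of_blk inv4_of_blk)
open Cfsg.Agent.H482.Ore.Fix (Bk SimpB wt nf_block')
open Cfsg.Agent.H224.Ore.Zeta Cfsg.Agent.H224.Ore.Tab Cfsg.Agent.H150.MF
open Polynomial

universe u v

variable {D : ChevalleyDatum} {l : ℕ} {M : CoxeterMatrix (Fin l)} (hp : IsType D l M)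

/-- **No fixed points.** -/
theorem nf_all {K : Type u} {K' : Type v} [Field K] [Field K'] [Finite K'] {i : K →+* K'} {J : List (Fin l)} {n : ℕ}
    {r : Fin (n + 2) → Fin (n + 2) → ℕ} {j : Fin (n + 1) → Fin l}
    {φ : Matrix.SpecialLinearGroup (Fin (n + 2)) K →* ↥(D.group K)}
    {φ' : Matrix.SpecialLinearGroup (Fin (n + 2)) K' →* ↥(D.group K')} {s : Fin (n + 2) → Fin (n + 2) → K}
    (B : Bk hp i {k | k ∈ J} n r j φ φ' s)
    (hW : ∀ q < D.nroots, (∃ k, k ∉ J ∧ vec D l q k ≠ 0) → Two (ex fun a => D.cartan (j a) q))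
    {ν : K} {p : K[X]} {lam : Fin (n + 2) → K'} (H : Zet i (n + 1) ν p lam)
    {c : Matrix.SpecialLinearGroup (Fin (n + 2)) K}
    (hc : (c : Matrix (Fin (n + 2)) (Fin (n + 2)) K).charpoly = (X - C ν) * p) :
    NF (VJ M.toCoxeterSystem hp.isCartan (XX D l K) {k | k ∈ J}) (φ c) ∧
      NF (VNJ M.toCoxeterSystem hp.isCartan (XX D l K) {k | k ∈ J}) (φ c) := by
  obtain ⟨ch, hch⟩ := CharP.exists K'
  have : Fact ch.Prime := ⟨(CharP.char_is_prime_or_zero K' ch).resolve_right (CharP.char_ne_zero_of_finite K' ch)⟩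
  obtain ⟨g, hg⟩ := Cfsg.Agent.H934.MF.diag_map i (c : Matrix (Fin (n + 2)) (Fin (n + 2)) K) H.inj
    (by rw [hc, H.split])
  exact nf_block' hp ch B hg fun q hq hk => Two.ne H (hW q hq hk)

/-- the block of `E₇` -/
theorem bk7 {K : Type u} {K' : Type v} [Field K] [Field K'] (i : K →+* K')
    {φ : Matrix.SpecialLinearGroup (Fin 7) K →* ↥(chevE7.group K)}
    {φ' : Matrix.SpecialLinearGroup (Fin 7) K' →* ↥(chevE7.group K')}
    (hφ : ∀ a b (hab : a ≠ b) c, φ (Matrix.SpecialLinearGroup.transvection hab c) =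
        xc Cfsg.Agent.Nodes.KindE.isType7 (vec chevE7 7 (r7 a b)) (((-1 : ℤ) : K) * c))
    (hφ' : ∀ a b (hab : a ≠ b) c, φ' (Matrix.SpecialLinearGroup.transvection hab c) =
        xc Cfsg.Agent.Nodes.KindE.isType7 (vec chevE7 7 (r7 a b)) (((-1 : ℤ) : K') * c)) :
    Bk Cfsg.Agent.Nodes.KindE.isType7 i {k | k ∈ J7} 5 r7 j7 φ φ' (fun _ _ => ((-1 : ℤ) : K)) where
  simp := ⟨fun a => simple7 a, fun a => by
    rw [rt7.2.2.2 _ _ (Fin.castSucc_lt_succ (i := a)).ne, simple7 a]⟩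
  rlt := tab7.rlt
  rJ := tab7.rJ
  hφ := hφ
  hφ' a b hab c := by rw [hφ' a b hab c, map_intCast]
  ss a := by push_cast; ring

theorem exists_oneClass7 (K : Type u) [Field K] [Finite K] (hq : 3 ≤ Nat.card K)
    {φ : Matrix.SpecialLinearGroup (Fin 7) K →* ↥(chevE7.group K)}
    (hφ : ∀ a b (hab : a ≠ b) c, φ (Matrix.SpecialLinearGroup.transvection hab c) =
        xc Cfsg.Agent.Nodes.KindE.isType7 (vec chevE7 7 (r7 a b)) (((-1 : ℤ) : K) * c)) :
    ∃ (ν : K) (p : K[X]) (c₀ : Matrix.SpecialLinearGroup (Fin 7) K), Irreducible p ∧ p.Monic ∧ p.natDegree = 6 ∧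
      p.eval ν ≠ 0 ∧ (c₀ : Matrix (Fin 7) (Fin 7) K).charpoly = (X - C ν) * p ∧
      NiceM (c₀ : Matrix (Fin 7) (Fin 7) K) ∧ OneClass Cfsg.Agent.Nodes.KindE.isType7 K J7 φ c₀ := by
  obtain ⟨K', _, _, i, ν, p, lam, H⟩ := exists_zet K hq (m := 6) (by norm_num)
  obtain ⟨φ', hφ'⟩ := exists_phi7 K'
  have B := bk7 i hφ hφ'
  obtain ⟨c₀, h1, h2, h3⟩ := mf_poly hq (n := 7) (by norm_num) H.monic H.deg H.c0 H.nu
  have key : ∀ g : Matrix.SpecialLinearGroup (Fin 7) K,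
      ((g * c₀ * g⁻¹ : Matrix.SpecialLinearGroup (Fin 7) K) : Matrix (Fin 7) (Fin 7) K).charpoly = (X - C ν) * p := by
    intro g
    have e : ((g * c₀ * g⁻¹ : Matrix.SpecialLinearGroup (Fin 7) K) : Matrix (Fin 7) (Fin 7) K) =
        (g : Matrix (Fin 7) (Fin 7) K) * c₀ * ((g⁻¹ : Matrix.SpecialLinearGroup (Fin 7) K) :
          Matrix (Fin 7) (Fin 7) K) := rfl
    rw [e, Matrix.mul_assoc, Matrix.charpoly_mul_comm, Matrix.mul_assoc]
    have e2 : ((g⁻¹ : Matrix.SpecialLinearGroup (Fin 7) K) : Matrix (Fin 7) (Fin 7) K) *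
        (g : Matrix (Fin 7) (Fin 7) K) = 1 := by
      rw [← Matrix.SpecialLinearGroup.coe_mul, inv_mul_cancel, Matrix.SpecialLinearGroup.coe_one]
    rw [e2, Matrix.mul_one, h1]
  have hdeg := H.deg
  refine ⟨ν, p, c₀, H.irr, H.monic, by omega, H.nu, h1, h2, ⟨h3, fun g => ?_, fun g => ?_⟩⟩
  · exact (nf_all _ B wt7 H (key g)).1
  · exact (nf_all _ B wt7 H (key g)).2

end Cfsg.Agent.H224.Ore.ESeven
end

-- part: H643/QO/ESeven
section
/-!
# Ore's theorem for the covers of `E₇(q)`, `q` odd (S2491, S2492, piece C2)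

* `commute_nodes` : the rank one subgroups of orthogonal nodes commute;
* `isC_neg_one` : `-1` is a commutator in `SL₂(q)`, `q` odd;
* `allC_cover_E7` : every perfect central extension of `E₇(q)` has only commutators, `q` odd.
-/

set_option autoImplicit false
set_option linter.unusedSectionVars false

namespace Cfsg.Agent.H643.QO

open CoxeterSystem Cfsg.Agent.ChevalleyStructure.CoxeterGeom Cfsg.Agent.Tits.Roots Cfsg.Agent.Tits.Core
  Cfsg.Agent.Nodes.Reps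
  Cfsg.Agent.Nodes.BNOf Cfsg.Agent.Nodes.StabComb Cfsg.Agent.Nodes.RGDLift
  Cfsg.Agent.Nodes.RGDLib Cfsg.Agent.Nodes.Bruhat Cfsg.Agent.Nodes.OppDec Cfsg.Agent.Nodes.LeviDec
  Cfsg.Agent.OddHalf.NI.Mult
  Cfsg.Agent.H162.GaussDec Cfsg.Agent.H162.GaussLevi Cfsg.Agent.H162.GaussSL
open Cfsg.Agent.H928.Ore.Frame (NF LP)
open Cfsg.Agent.H51.Mult (PCE)
open Cfsg.Agent.H777.Ore (IsC AllC)

universe u v w

section Nodes

variable {I W Y : Type*} [Fintype I] [DecidableEq I] [Group W] [Finite W] [Group Y]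
  {M : CoxeterMatrix I} {cs : CoxeterSystem M W} {A : I → I → ℤ} {h : IsCartan M A} {p : ℕ}
  {T : Subgroup Y} {n : I → Y} {X : (I → ℤ) → Subgroup Y}
  {F : I → Type*} [∀ i, Field (F i)] {s : ∀ i, Matrix.SpecialLinearGroup (Fin 2) (F i) →* Y}

theorem commute_roots (R : RGD cs h p T n X) {i j : I} (hij : i ≠ j) (h2 : M i j = 2) {x y : I → ℤ}
    (hx : x = sr i ∨ x = -sr i) (hy : y = sr j ∨ y = -sr j) {a b : Y} (ha : a ∈ X x) (hb : b ∈ X y) :
    a * b = b * a := by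
  have : Fintype W := Fintype.ofFinite W
  have key := Cfsg.Agent.Nodes.ClsPair.pair_of_two (R := {x | IsRoot cs h x}) (Z := X) (z := fun _ => 1) R
    (fun _ _ => le_rfl) (fun _ hr => hr) hij h2
  have hxr : IsRoot cs h x := by rcases hx with rfl | rfl; exacts [isRoot_sr cs h i, (isRoot_sr cs h i).neg]
  have hyr : IsRoot cs h y := by rcases hy with rfl | rfl; exacts [isRoot_sr cs h j, (isRoot_sr cs h j).neg]
  have hxs : Cfsg.Agent.Nodes.Comb.Supp i j x := by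
    intro k hk1 hk2
    rcases hx with rfl | rfl
    · exact sr_ne hk1
    · rw [Pi.neg_apply, sr_ne hk1, neg_zero]
  have hys : Cfsg.Agent.Nodes.Comb.Supp i j y := by
    intro k hk1 hk2
    rcases hy with rfl | rfl
    · exact sr_ne hk2
    · rw [Pi.neg_apply, sr_ne hk2, neg_zero]
  have hxi : x i ≠ 0 := by
    rcases hx with rfl | rfl
    · rw [sr_self]; decide
    · rw [Pi.neg_apply, sr_self]; decide
  have hyi : y i = 0 := by
    rcases hy with rfl | rfl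
    · exact sr_ne hij
    · rw [Pi.neg_apply, sr_ne hij, neg_zero]
  have hne : x ≠ y := fun e => hxi (by rw [e, hyi])
  have hne' : x ≠ -y := fun e => hxi (by rw [e, Pi.neg_apply, hyi, neg_zero])
  have hf : form cs h (sr i) (sr j) = 0 := by
    have := two_form cs h j (sr i)
    rw [sr, pairing_single, Cfsg.Agent.Nodes.ClsPair.A_eq_zero h hij.symm (by rwa [M.symmetric])] at this
    rw [sr]
    linarith only [this]
  have hf1 : form cs h x y = 0 := by
    rcases hx with rfl | rfl <;> rcases hy with rfl | rfl <;>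
      simp only [form_neg_left, form_neg_right, hf, neg_zero]
  exact (key y hyr hys x hxr hxs hne hne').cent hf1.ge a ha b hb

theorem commute_nodes (R : RGD cs h p T n X) (C : Coord X F s) {i j : I} (hij : i ≠ j) (h2 : M i j = 2)
    (x : Matrix.SpecialLinearGroup (Fin 2) (F i)) (y : Matrix.SpecialLinearGroup (Fin 2) (F j)) :
    s i x * s j y = s j y * s i x := by
  -- first `y` fixed among the generators
  have key : ∀ b : Y, (b ∈ X (sr j) ∨ b ∈ X (-sr j)) → ∀ x, s i x * b = b * s i x := by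
    intro b hb x
    have h3 : (Subgroup.centralizer ({b} : Set Y)).comap (s i) = ⊤ := by
      refine mem_of_up_lo (fun a => ?_) (fun a => ?_)
      · rw [Subgroup.mem_comap, Subgroup.mem_centralizer_singleton_iff]
        rcases hb with hb | hb
        · exact (commute_roots R hij h2 (Or.inl rfl) (Or.inl rfl) (C.mem_up i a) hb)
        · exact (commute_roots R hij h2 (Or.inl rfl) (Or.inr rfl) (C.mem_up i a) hb)
      · rw [Subgroup.mem_comap, Subgroup.mem_centralizer_singleton_iff]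
        rcases hb with hb | hb
        · exact (commute_roots R hij h2 (Or.inr rfl) (Or.inl rfl) (C.mem_lo i a) hb)
        · exact (commute_roots R hij h2 (Or.inr rfl) (Or.inr rfl) (C.mem_lo i a) hb)
    have h4 : x ∈ (Subgroup.centralizer ({b} : Set Y)).comap (s i) := by rw [h3]; trivial
    rw [Subgroup.mem_comap, Subgroup.mem_centralizer_singleton_iff] at h4
    exact h4
  have h3 : (Subgroup.centralizer ({s i x} : Set Y)).comap (s j) = ⊤ := by
    refine mem_of_up_lo (fun a => ?_) (fun a => ?_)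
    · rw [Subgroup.mem_comap, Subgroup.mem_centralizer_singleton_iff]
      exact (key _ (Or.inl (C.mem_up j a)) x).symm
    · rw [Subgroup.mem_comap, Subgroup.mem_centralizer_singleton_iff]
      exact (key _ (Or.inr (C.mem_lo j a)) x).symm
  have h4 : y ∈ (Subgroup.centralizer ({s i x} : Set Y)).comap (s j) := by rw [h3]; trivial
  rw [Subgroup.mem_comap, Subgroup.mem_centralizer_singleton_iff] at h4
  exact h4.symm

end Nodes

/-- commutators in commuting subgroups -/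
theorem comm_mul {G : Type*} [Group G] {a b c d : G} (h1 : Commute a c) (h2 : Commute a d) (h3 : Commute b c)
    (h4 : Commute b d) : a * b * a⁻¹ * b⁻¹ * (c * d * c⁻¹ * d⁻¹) = (a * c) * (b * d) * (a * c)⁻¹ * (b * d)⁻¹ := by
  have e1 : Commute (a * b * a⁻¹ * b⁻¹) c :=
    ((h1.mul_left h3).mul_left h1.inv_left).mul_left h3.inv_left
  calc a * b * a⁻¹ * b⁻¹ * (c * d * c⁻¹ * d⁻¹) = (a * b * a⁻¹ * b⁻¹ * c) * d * c⁻¹ * d⁻¹ := by group
    _ = c * a * b * a⁻¹ * (b⁻¹ * d) * c⁻¹ * d⁻¹ := by rw [e1.eq]; group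
    _ = c * a * b * (a⁻¹ * d) * b⁻¹ * c⁻¹ * d⁻¹ := by rw [h4.inv_left.eq]; group
    _ = (c * a) * (b * d) * a⁻¹ * (b⁻¹ * c⁻¹) * d⁻¹ := by rw [h2.inv_left.eq]; group
    _ = (a * c) * (b * d) * (a⁻¹ * c⁻¹) * (b⁻¹ * d⁻¹) := by
      rw [h3.inv_inv.eq, h1.symm.eq]; group
    _ = (a * c) * (b * d) * (c⁻¹ * a⁻¹) * (d⁻¹ * b⁻¹) := by rw [h1.inv_inv.eq, h4.inv_inv.eq]
    _ = _ := by group

/-- `-1` is a commutator in `SL₂(q)`, `q` odd. -/
theorem isC_neg_one {K : Type*} [Field K] [Finite K] (h2 : (2 : K) ≠ 0) :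
    ∃ a b : Matrix.SpecialLinearGroup (Fin 2) K, dg (-1) = a * b * a⁻¹ * b⁻¹ := by
  have : Fintype K := Fintype.ofFinite K
  obtain ⟨x, y, hxy⟩ : ∃ x y : K, x ^ 2 + y ^ 2 = -1 := by
    have hodd : Fintype.card K % 2 = 1 := by
      obtain ⟨p, hpc⟩ := CharP.exists K
      have hpp : Fact p.Prime := ⟨(CharP.char_is_prime_or_zero K p).resolve_right (CharP.char_ne_zero_of_finite K p)⟩
      have h3 : ringChar K ≠ 2 := by
        rw [ringChar.eq K p]
        rintro rfl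
        exact h2 (by exact_mod_cast CharP.cast_eq_zero K 2)
      exact FiniteField.odd_card_of_char_ne_two h3
    obtain ⟨x, y, e⟩ := FiniteField.exists_root_sum_quadratic (f := Polynomial.X ^ 2) (g := Polynomial.X ^ 2 + 1)
      (by simp only [_root_.Polynomial.degree_pow, _root_.Polynomial.degree_X, _root_.nsmul_eq_mul, _root_.Nat.cast_ofNat, _root_.mul_one]) (by rw [Polynomial.degree_add_eq_left_of_degree_lt] <;> simp only [_root_.Polynomial.degree_pow, _root_.Polynomial.degree_X, _root_.nsmul_eq_mul, _root_.Nat.cast_ofNat, _root_.mul_one, _root_.Polynomial.degree_one, _root_.Nat.ofNat_pos]) hodd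
    exact ⟨x, y, by simp only [_root_.Polynomial.eval_pow, _root_.Polynomial.eval_X, _root_.Polynomial.eval_add, _root_.Polynomial.eval_one] at e; linear_combination e⟩
  let a : Matrix.SpecialLinearGroup (Fin 2) K := ⟨!![0, 1; -1, 0], by simp [Matrix.det_fin_two]⟩
  let b : Matrix.SpecialLinearGroup (Fin 2) K := ⟨!![x, y; y, -x], by
    rw [Matrix.det_fin_two_of]; linear_combination -hxy⟩
  refine ⟨a, b, ?_⟩
  have h1 : a * b = dg (-1) * (b * a) := by
    apply Subtype.ext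
    rw [dg_neg_one, neg_one_mul, Matrix.SpecialLinearGroup.coe_neg, Matrix.SpecialLinearGroup.coe_mul,
      Matrix.SpecialLinearGroup.coe_mul]
    show !![(0 : K), 1; -1, 0] * !![x, y; y, -x] = -(!![x, y; y, -x] * !![0, 1; -1, 0])
    simp [Matrix.mul_fin_two]
  rw [h1]
  group

section E7

open Cfsg.Lie Cfsg.Agent.ChevalleyStructure Cfsg.Agent.ChevalleyStructure.Elts
  Cfsg.Agent.ChevalleyStructure.NPerm Cfsg.Agent.ChevalleyStructure.CoxeterGeomTypes Cfsg.Agent.Nodes.RGDChev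
  Cfsg.Agent.Nodes.KindChev Cfsg.Agent.KFacts.RgdChevCoord Cfsg.Agent.OddHalf.NI.ModelChev
  Cfsg.Agent.H85.Ore Cfsg.Agent.H224.Ore.ESeven

variable {K : Type} [Field K] [Finite K]

/-- the products of the coroots -/
theorem th_comb {D : ChevalleyDatum} {l : ℕ} {M : CoxeterMatrix (Fin l)} (hp : IsType D l M) {t : Fin l → Kˣ}
    (h1 : th hp t = 1) (c : Fin l → ℤ) : ∏ i, (t i) ^ (∑ j, cartanOf D l i j * c j) = 1 := by
  have h2 : ∀ j, ∏ i, (t i) ^ cartanOf D l i j = 1 := by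
    intro j
    have := th_cartan hp h1 j
    apply Units.ext
    rw [Units.coe_prod, Units.val_one, ← this]
    exact Finset.prod_congr rfl fun i _ => Units.val_zpow_eq_zpow_val _ _
  calc ∏ i, (t i) ^ (∑ j, cartanOf D l i j * c j) = ∏ i, ∏ j, ((t i) ^ cartanOf D l i j) ^ c j := by
        refine Finset.prod_congr rfl fun i _ => ?_
        rw [← Cfsg.Agent.H162.GaussExc.prod_zpow]
        exact Finset.prod_congr rfl fun j _ => zpow_mul _ _ _
    _ = ∏ j, (∏ i, (t i) ^ cartanOf D l i j) ^ c j := by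
        rw [Finset.prod_comm]
        exact Finset.prod_congr rfl fun j _ => Finset.prod_zpow _ _ _
    _ = 1 := by
        refine Finset.prod_eq_one fun j _ => ?_
        rw [h2, one_zpow]

/-- the solutions of `th t = 1` for `E₇` -/
theorem th_sol_E7 {t : Fin 7 → Kˣ} (h1 : th Nodes.KindE.isType7 t = 1) :
    t 0 = 1 ∧ t 2 = 1 ∧ t 3 = 1 ∧ t 5 = 1 ∧ t 1 = t 6 ∧ t 4 = t 6 := by
  have hsq : ∀ i, t i ^ 2 = 1 := fun i => th_ker_E7 h1 i
  have hz : ∀ (i : Fin 7) (k : ℤ), t i ^ (2 * k) = 1 := fun i k => by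
    rw [zpow_mul, zpow_ofNat, hsq, one_zpow]
  have key := th_comb Nodes.KindE.isType7 h1
  have e0 : ∀ i, ∑ j, cartanOf chevE7 7 i j * (![2, 2, 3, 4, 3, 2, 1] : Fin 7 → ℤ) j = (![1, 0, 0, 0, 0, 0, 0] : Fin 7 → ℤ) i := by
    decide +kernel
  have e2 : ∀ i, ∑ j, cartanOf chevE7 7 i j * (![3, 4, 6, 8, 6, 4, 2] : Fin 7 → ℤ) j = (![0, 0, 1, 0, 0, 0, 0] : Fin 7 → ℤ) i := by
    decide +kernel
  have e3 : ∀ i, ∑ j, cartanOf chevE7 7 i j * (![4, 6, 8, 12, 9, 6, 3] : Fin 7 → ℤ) j = (![0, 0, 0, 1, 0, 0, 0] : Fin 7 → ℤ) i := by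
    decide +kernel
  have e5 : ∀ i, ∑ j, cartanOf chevE7 7 i j * (![2, 3, 4, 6, 5, 4, 2] : Fin 7 → ℤ) j = (![0, 0, 0, 0, 0, 1, 0] : Fin 7 → ℤ) i := by
    decide +kernel
  have e1 : ∀ i, ∑ j, cartanOf chevE7 7 i j * (![1, 2, 2, 3, 2, 1, 0] : Fin 7 → ℤ) j = (![0, 1, 0, 0, 0, 0, -1] : Fin 7 → ℤ) i := by
    decide +kernel
  have e4 : ∀ i, ∑ j, cartanOf chevE7 7 i j * (![2, 3, 4, 6, 5, 3, 1] : Fin 7 → ℤ) j = (![0, 0, 0, 0, 1, 0, -1] : Fin 7 → ℤ) i := by
    decide +kernel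
  have f0 := key ![2, 2, 3, 4, 3, 2, 1]
  have f2 := key ![3, 4, 6, 8, 6, 4, 2]
  have f3 := key ![4, 6, 8, 12, 9, 6, 3]
  have f5 := key ![2, 3, 4, 6, 5, 4, 2]
  have f1 := key ![1, 2, 2, 3, 2, 1, 0]
  have f4 := key ![2, 3, 4, 6, 5, 3, 1]
  simp only [e0] at f0
  simp only [e2] at f2
  simp only [e3] at f3
  simp only [e5] at f5
  simp only [e1] at f1
  simp only [e4] at f4
  rw [Fin.prod_univ_seven] at f0 f1 f2 f3 f4 f5
  simp only [_root_.Fin.isValue, _root_.Matrix.cons_val_zero, _root_.zpow_ofNat, _root_.pow_one, _root_.Matrix.cons_val_one, _root_.pow_zero, _root_.mul_one, _root_.Matrix.cons_val, _root_.Int.reduceNeg, _root_.one_mul, _root_.zpow_neg] at f0 f1 f2 f3 f4 f5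
  exact ⟨f0, f2, f3, f5, by rwa [mul_inv_eq_one] at f1, by rwa [mul_inv_eq_one] at f4⟩

/-- **Every element of a perfect central extension of `E₇(q)`, `q` odd, is a commutator.** -/
theorem allC_cover_E7 (K : Type) [Field K] [Fintype K] (ho : Odd (Fintype.card K)) {L : Type} [Group L] [Finite L]
    {π : L →* ↥(chevE7.group K)} (hπ : PCE π) : AllC L := by
  classical
  obtain ⟨p, hpp, hpc, hp2⟩ := Cfsg.Agent.OddHalf.NI.ExcEnd.exists_char K ho
  have : Fact p.Prime := ⟨hpp⟩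
  have := finite_W Nodes.KindE.isType7 CoxeterMatrix.E₇.toCoxeterSystem
  have hsimple := Cfsg.Agent.S1054.result (F := K) chevE7 (by simp)
  have : IsSimpleGroup ↥(chevE7.group K) := hsimple.1
  have R := rgd (K := K) Nodes.KindE.isType7 CoxeterMatrix.E₇.toCoxeterSystem p
  have hq3 : 3 ≤ Nat.card K := by
    rw [Nat.card_eq_fintype_card]
    have h1 : 1 < Fintype.card K := Fintype.one_lt_card
    obtain ⟨m, hm⟩ := ho
    omega
  -- the kernel
  have hk2 : Nat.card π.ker ∣ 2 := by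
    obtain ⟨-, h1⟩ := Cfsg.Agent.H68.Bounds.ker_of_hasCyclic (Cfsg.Agent.S2106.result (F := K) rfl) hπ
    exact h1.trans (Nat.gcd_dvd_left _ _)
  have h2g : IsPGroup 2 π.ker := by
    have : Fact (Nat.Prime 2) := ⟨Nat.prime_two⟩
    rcases (Nat.dvd_prime Nat.prime_two).1 hk2 with h1 | h1
    · exact IsPGroup.of_card (n := 0) (by rw [h1]; rfl)
    · exact IsPGroup.of_card (n := 1) (by rw [h1]; rfl)
  have hk : (Nat.card π.ker).Coprime p :=
    Nat.Coprime.coprime_dvd_left hk2 ((Nat.coprime_primes Nat.prime_two hpp).2 hp2.symm)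
  obtain ⟨s', θ', h3, h4, h5, h6, C', hG', hR'⟩ := Cfsg.Agent.OddHalf.NI.Mult.mult hp2 R (G1_eq_top Nodes.KindE.isType7 _)
    (Cfsg.Agent.OddHalf.NI.ExcEnd.coord Nodes.KindE.isType7) (th Nodes.KindE.isType7)
    (Cfsg.Agent.OddHalf.NI.ExcEnd.th_dg Nodes.KindE.isType7) hπ.surj hπ.cen h2g hπ.perf
  intro g
  by_cases hg : π g = 1
  · -- the centre
    have h7 : g ∈ θ'.range := by
      rw [h6, Subgroup.mem_comap, hg]
      exact one_mem _
    obtain ⟨t, rfl⟩ := h7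
    have ht : th Nodes.KindE.isType7 t = 1 := by rw [← h5]; exact hg
    obtain ⟨t0, t2, t3, t5, t1, t4⟩ := th_sol_E7 ht
    have t6 : t 6 ^ 2 = 1 := th_ker_E7 ht 6
    have ht6 : t 6 = 1 ∨ t 6 = -1 := by
      have t6' : ((t 6 : Kˣ) : K) * ((t 6 : Kˣ) : K) = 1 := by
        rw [← pow_two, ← Units.val_pow_eq_pow_val, t6, Units.val_one]
      rcases mul_self_eq_one_iff.1 t6' with h | h
      · exact Or.inl (Units.ext h)
      · exact Or.inr (Units.ext (by rw [h, Units.val_neg, Units.val_one]))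
    rcases ht6 with h8 | h8
    · have : t = 1 := by
        funext i
        fin_cases i
        · exact t0
        · exact t1.trans h8
        · exact t2
        · exact t3
        · exact t4.trans h8
        · exact t5
        · exact h8
      rw [this, map_one]
      exact Cfsg.Agent.H777.Ore.isC_one
    · have e1 : t = Pi.mulSingle 1 (-1) * (Pi.mulSingle 4 (-1) * Pi.mulSingle 6 (-1)) := by
        funext i
        fin_cases i
        · simpa [Pi.mulSingle_apply] using t0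
        · simpa [Pi.mulSingle_apply] using t1.trans h8
        · simpa [Pi.mulSingle_apply] using t2
        · simpa [Pi.mulSingle_apply] using t3
        · simpa [Pi.mulSingle_apply] using t4.trans h8
        · simpa [Pi.mulSingle_apply] using t5
        · simpa [Pi.mulSingle_apply] using h8
      rw [e1, map_mul, map_mul, h4, h4, h4]
      have h2K : (2 : K) ≠ 0 := by
        intro h20
        apply hp2
        have h9 : ((2 : ℕ) : K) = 0 := by exact_mod_cast h20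
        rw [CharP.cast_eq_zero_iff K p] at h9
        exact (Nat.prime_dvd_prime_iff_eq hpp Nat.prime_two).1 h9
      obtain ⟨a, b, hab⟩ := isC_neg_one h2K
      obtain ⟨n', hn'⟩ : ∃ n' : Fin 7 → L, ∀ i, π (n' i) = nc Nodes.KindE.isType7 K i := by
        choose n' hn' using fun i => hπ.surj (nc Nodes.KindE.isType7 K i)
        exact ⟨n', hn'⟩
      have R' := hR' n' hn'
      have hc : ∀ i j : Fin 7, i ≠ j → CoxeterMatrix.E₇.M i j = 2 → ∀ x y, s' i x * s' j y = s' j y * s' i x :=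
        fun i j hij h2 x y => commute_nodes R' C' hij h2 x y
      have c14 := hc 1 4 (by decide) (by decide)
      have c16 := hc 1 6 (by decide) (by decide)
      have c46 := hc 4 6 (by decide) (by decide)
      refine ⟨s' 1 a * (s' 4 a * s' 6 a), s' 1 b * (s' 4 b * s' 6 b), ?_⟩
      have h9 : ∀ i, s' i (dg (-1)) = s' i a * s' i b * (s' i a)⁻¹ * (s' i b)⁻¹ := fun i => by
        rw [hab]; simp only [map_mul, map_inv]
      rw [h9, h9, h9]
      rw [comm_mul (c46 a a) (c46 a b) (c46 b a) (c46 b b)]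
      rw [comm_mul]
      · exact Commute.mul_right (c14 a a) (c16 a a)
      · exact Commute.mul_right (c14 a b) (c16 a b)
      · exact Commute.mul_right (c14 b a) (c16 b a)
      · exact Commute.mul_right (c14 b b) (c16 b b)
  · obtain ⟨φ, hφ⟩ := exists_phi7 K
    have hok : Cfsg.Agent.H60.MultA.Ok 7 (Nat.card K) := ⟨by norm_num, fun h => absurd h (by norm_num), by simp only [_root_.Nat.card_eq_fintype_card, _root_.Set.mem_insert_iff, _root_.Prod.mk.injEq, _root_.Nat.reduceEqDiff, _root_.false_and, _root_.Set.mem_singleton_iff, _root_.or_self, _root_.not_false_eq_true]⟩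
    obtain ⟨φ', hφ'⟩ := exists_lift (Cfsg.Agent.H60.MultA.hasTrivial_SL hok) (Cfsg.Agent.H60.MultA.perfect_SL hok) φ
      hπ.surj hπ.cen (Nat.coprime_one_right _)
    have hφ1 : ∀ A, π (φ' A) = φ A := fun A => DFunLike.congr_fun hφ' A
    obtain ⟨-, -, c₀, -, -, -, -, -, -, h⟩ := exists_oneClass7 K hq3 hφ
    exact isC_lift R hπ.cen hk hπ.surj hG' C' (Cfsg.Agent.Nodes.ChevChart.irr_of Cfsg.Agent.Nodes.ChevChart.irr7)
      (J := {k | k ∈ J7}) (φ' := φ') (c₀ := c₀) (isPGroup_UT (K := K) (n := 7) p) (isPGroup_LT p)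
      (fun A => by rw [hφ1]; exact Cfsg.Agent.H162.GaussExc.phi_mem _ tab7 hφ A)
      (by rw [hφ']; exact UJ_le _ tab7 (s := fun _ _ => ((-1 : ℤ) : K)) (fun _ _ => by simp) hφ)
      (by rw [hφ']; exact UNJ_le _ tab7 (s := fun _ _ => ((-1 : ℤ) : K)) (fun _ _ => by simp) hφ)
      h.mf (fun A => by rw [hφ1]; exact h.nf A) (fun A => by rw [hφ1]; exact h.nfN A) hg

end E7

end Cfsg.Agent.H643.QO
end

-- part: H33/QRu/Fus
section
/-!
# Ore's theorem for the double cover of the Rudvalis group: the reduction (helper33)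

* `Fus x` : `x` has a lift to the lattice group which is conjugate to its product by the commutator `-1` of the right
  multiplications by `j`, `k`;
* `rowA_of` : one commutator `[x, k]` with `Fus x` in every nontrivial class of the Rudvalis group is enough.
-/

set_option autoImplicit false

namespace Cfsg.Agent.H33.QRu

open Subgroup Cfsg.Spor Cfsg.Agent.H51.Mult Cfsg.Agent.H51.Tools Cfsg.Agent.H777.Ore Cfsg.Agent.H6.QO
open Cfsg.Agent.H51.RuCover
open scoped commutatorElement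

/-- the commutator `-1` -/
noncomputable abbrev nu : fourRu := ⁅j, k⁆

/-- the quotient map -/
noncomputable abbrev qm : fourRu →* Ru := QuotientGroup.mk' (center fourRu)

theorem qm_surj : Function.Surjective qm := QuotientGroup.mk'_surjective _

theorem ker_qm : qm.ker ≤ center fourRu := by rw [QuotientGroup.ker_mk']

theorem nu_central (y : fourRu) : nu * y = y * nu := (mem_center_iff.1 (mem_center_of comm_apply) y).symm

theorem qm_nu : qm nu = 1 := (QuotientGroup.eq_one_iff _).2 (mem_center_of comm_apply)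

/-- `x` has a lift which is conjugate to its product by `-1` -/
def Fus (x : Ru) : Prop := ∃ f c : fourRu, qm f = x ∧ c * f * c⁻¹ = f * nu

theorem Fus.conj {x : Ru} (h : Fus x) (y : Ru) : (Fus (y * x * y⁻¹) :) := by
  obtain ⟨f, c, rfl, hc⟩ := h
  obtain ⟨y, rfl⟩ := qm_surj y
  refine ⟨y * f * y⁻¹, y * c * y⁻¹, by rw [map_mul, map_mul, map_inv], ?_⟩
  calc y * c * y⁻¹ * (y * f * y⁻¹) * (y * c * y⁻¹)⁻¹ = y * (c * f * c⁻¹) * y⁻¹ := by group
    _ = y * (f * nu) * y⁻¹ := by rw [hc]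
    _ = y * f * (nu * y⁻¹) := by group
    _ = y * f * (y⁻¹ * nu) := by rw [nu_central]
    _ = y * f * y⁻¹ * nu := by group

/-- in the commutator subgroup -/
theorem Fus.lift (hX : commutator Ru = ⊤) {x : Ru} (h : Fus x) :
    ∃ f c : commutator fourRu, qm f = x ∧ c * f * c⁻¹ = f * ⟨nu, commutator_mem_commutator (mem_top _) (mem_top _)⟩ := by
  obtain ⟨f, c, rfl, hc⟩ := h
  obtain ⟨d, hd, ζ, hζ, rfl⟩ := exists_factor qm_surj hX f
  obtain ⟨e, he, ξ, hξ, rfl⟩ := exists_factor qm_surj hX c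
  refine ⟨⟨d, hd⟩, ⟨e, he⟩, by rw [map_mul, hζ, mul_one], Subtype.ext ?_⟩
  show e * d * e⁻¹ = d * nu
  have h1 : ∀ y, ζ * y = y * ζ := fun y => (mem_center_iff.1 (ker_qm hζ) y).symm
  have h2 : ∀ y, ξ * y = y * ξ := fun y => (mem_center_iff.1 (ker_qm hξ) y).symm
  have h3 : e * ξ * (d * ζ) * (e * ξ)⁻¹ = e * d * e⁻¹ * ζ := by
    calc e * ξ * (d * ζ) * (e * ξ)⁻¹ = e * (ξ * (d * ζ)) * ξ⁻¹ * e⁻¹ := by group
      _ = e * ((d * ζ) * ξ) * ξ⁻¹ * e⁻¹ := by rw [h2]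
      _ = e * d * (ζ * e⁻¹) := by group
      _ = e * d * (e⁻¹ * ζ) := by rw [h1]
      _ = e * d * e⁻¹ * ζ := by group
  rw [h3] at hc
  have h4 : e * d * e⁻¹ * ζ = d * nu * ζ := by
    rw [hc]
    calc d * ζ * nu = d * (ζ * nu) := by group
      _ = d * (nu * ζ) := by rw [h1]
      _ = d * nu * ζ := by group
  exact mul_right_cancel h4

/-- **the reduction** -/
theorem rowA_of (h : ∀ g : Ru, g ≠ 1 → ∃ x k : Ru, Fus x ∧ IsConj g (x * k * x⁻¹ * k⁻¹)) : RowA Ru := by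
  obtain ⟨hz, hcard, hs⟩ := Cfsg.Agent.RuLat.Main.main
  haveI : Finite Ru := Nat.finite_of_card_ne_zero (by rw [hcard]; norm_num)
  have hX : commutator Ru = ⊤ := perfect_of_simple hs (by rw [hcard]; norm_num)
  haveI hfin : Finite fourRu := by
    apply Nat.finite_of_card_ne_zero
    rw [Subgroup.card_eq_card_quotient_mul_card_subgroup (Subgroup.center fourRu), hz]
    show Nat.card Ru * 4 ≠ 0
    rw [hcard]
    norm_num
  have hσ : PCE (qm.comp (commutator fourRu).subtype) := pce_of_central qm_surj ker_qm hX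
  have hnu : nu ∈ _root_.commutator fourRu := commutator_mem_commutator (mem_top _) (mem_top _)
  have hord : orderOf (⟨⟨nu, hnu⟩, qm_nu⟩ : (qm.comp (_root_.commutator fourRu).subtype).ker) = 2 := by
    rw [← Subgroup.orderOf_coe, ← Subgroup.orderOf_coe]
    exact orderOf_comm
  have hker : Nat.card (qm.comp (_root_.commutator fourRu).subtype).ker = 2 := by
    refine Nat.dvd_antisymm (Cfsg.Agent.H68.Bounds.ker_of_hasCyclic Cfsg.Agent.S2051.result hσ).2 ?_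
    rw [← hord]
    exact _root_.orderOf_dvd_natCard _
  have hgen : ∀ ζ : commutator fourRu, (qm.comp (_root_.commutator fourRu).subtype) ζ = 1 →
      ζ ∈ zpowers (⟨nu, hnu⟩ : commutator fourRu) := by
    intro ζ hζ
    have h1 : zpowers (⟨⟨nu, hnu⟩, qm_nu⟩ : (qm.comp (_root_.commutator fourRu).subtype).ker) = ⊤ := by
      apply Subgroup.eq_top_of_card_eq
      rw [Nat.card_zpowers, hord, hker]
    have h2 : (⟨ζ, hζ⟩ : (qm.comp (_root_.commutator fourRu).subtype).ker) ∈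
        zpowers (⟨⟨nu, hnu⟩, qm_nu⟩ : (qm.comp (_root_.commutator fourRu).subtype).ker) := h1 ▸ mem_top _
    obtain ⟨n, hn⟩ := mem_zpowers_iff.1 h2
    exact mem_zpowers_iff.2 ⟨n, congrArg (Subtype.val) hn⟩
  have hcardA : Nat.card (Multiplicative (ZMod 2)) = 2 := by
    rw [Nat.card_congr (Multiplicative.toAdd (α := ZMod 2)), Nat.card_zmod]
  refine RowA.of_univ (A := Multiplicative (ZMod 2)) Cfsg.Agent.S2051.result hσ (hker.trans hcardA.symm) ?_
  intro g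
  by_cases hg : (qm.comp (commutator fourRu).subtype) g = 1
  · -- the kernel
    obtain ⟨d, hd, ζ, hζ, hj⟩ := exists_factor qm_surj hX j
    obtain ⟨e, he, ξ, hξ, hk⟩ := exists_factor qm_surj hX k
    have h1 : IsC (⟨nu, hnu⟩ : commutator fourRu) := by
      refine ⟨⟨d, hd⟩, ⟨e, he⟩, Subtype.ext ?_⟩
      show nu = d * e * d⁻¹ * e⁻¹
      have h1 : ∀ y, ζ * y = y * ζ := fun y => (mem_center_iff.1 (ker_qm hζ) y).symm
      have h2 : ∀ y, ξ * y = y * ξ := fun y => (mem_center_iff.1 (ker_qm hξ) y).symm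
      show j * k * j⁻¹ * k⁻¹ = _
      rw [hj, hk]
      calc d * ζ * (e * ξ) * (d * ζ)⁻¹ * (e * ξ)⁻¹ = d * (ζ * (e * ξ)) * ζ⁻¹ * d⁻¹ * (ξ⁻¹ * e⁻¹) := by group
        _ = d * ((e * ξ) * ζ) * ζ⁻¹ * d⁻¹ * (ξ⁻¹ * e⁻¹) := by rw [h1]
        _ = d * e * (ξ * (d⁻¹ * ξ⁻¹)) * e⁻¹ := by group
        _ = d * e * ((d⁻¹ * ξ⁻¹) * ξ) * e⁻¹ := by rw [h2]
        _ = d * e * d⁻¹ * e⁻¹ := by group
    obtain ⟨n, hn⟩ := mem_zpowers_iff.1 (hgen g hg)
    rcases Int.even_or_odd' n with ⟨m, rfl | rfl⟩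
    · have h2 : g = 1 := by
        rw [← hn, zpow_mul]
        have h3 : (⟨nu, hnu⟩ : commutator fourRu) ^ (2 : ℤ) = 1 := by
          have h4 := pow_orderOf_eq_one nu
          rw [orderOf_comm] at h4
          exact Subtype.ext (by simpa only [_root_.zpow_ofNat, _root_.SubmonoidClass.mk_pow, _root_.OneMemClass.coe_one] using h4)
        rw [h3, one_zpow]
      rw [h2]; exact isC_one
    · have h2 : g = ⟨nu, hnu⟩ := by
        rw [← hn, zpow_add, zpow_mul]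
        have h3 : (⟨nu, hnu⟩ : commutator fourRu) ^ (2 : ℤ) = 1 := by
          have h4 := pow_orderOf_eq_one nu
          rw [orderOf_comm] at h4
          exact Subtype.ext (by simpa only [_root_.zpow_ofNat, _root_.SubmonoidClass.mk_pow, _root_.OneMemClass.coe_one] using h4)
        rw [h3, one_zpow, one_mul, zpow_one]
      rw [h2]; exact h1
  · obtain ⟨x, y, hx, hconj⟩ := h _ hg
    obtain ⟨t, ht⟩ := isConj_iff.1 hconj
    obtain ⟨t, rfl⟩ := hσ.surj t
    obtain ⟨f, c, rfl, hc⟩ := hx.lift hX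
    have h1 : IsC (t * g * t⁻¹) := by
      refine isC_of_pair_zpowers (π := qm.comp (_root_.commutator fourRu).subtype) hσ.surj hσ.cen hgen qm_nu (x := f) (k := y)
        ?_ (isConj_iff.2 ⟨c, hc⟩)
      simp only [map_mul, map_mul, map_inv]
      exact ht
    exact IsC.of_conj t h1

end Cfsg.Agent.H33.QRu
end

-- part: H33/QRu/JK
section
/-!
# The right multiplications by `j` and `k` as words of the Rudvalis group, and a fusing element (helper33)

* `Wd w` : the element of `Ru` of the word `w` in the letters of `RuD.Letters`;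
* `fus_TS` : the element `T S` (order 4) has a lift conjugate to its product by `-1`.
-/

set_option autoImplicit false
set_option maxRecDepth 100000

namespace Cfsg.Agent.H33.QRu

open Subgroup Cfsg.Spor Cfsg.Agent.H51.Mult Cfsg.Agent.H51.Tools Cfsg.Agent.H777.Ore Cfsg.Agent.H6.QO
open Cfsg.Agent.H51.RuCover Cfsg.Agent.RuLat Cfsg.Agent.SporadicB Cfsg.Agent.RuD.Letters
open Cfsg.Agent.Lib Cfsg.Agent.Lib.BitNet Cfsg.Agent.SporadicB.RuOrder
open Cfsg.Agent.SporRec.TCUpperCert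
open scoped commutatorElement

/-- the isomorphism on classes -/
theorem equiv_qm (f : fourRu) :
    ((Main.equiv (qm f) : RuOrder.H) : Equiv.Perm (Fin 4060)) = Main.hyp.hom f := rfl

/-! ### the images of the base lines -/

theorem vec_code {e i C s : ℕ} (h1 : Nat.beq (packL e i planes) C = true) (h2 : Nat.beq (scaleN i) s = true) :
    gI ^ e • vec i = decv C s := by
  rw [← decv_packL, Nat.eq_of_beq_eq_true h1, Nat.eq_of_beq_eq_true h2]

theorem im_j {i i' : Fin 4060} (e C s C' s' : ℕ)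
    (h1 : Nat.beq (packL 0 i planes) C = true) (h2 : Nat.beq (scaleN i) s = true)
    (h3 : Nat.beq (packL e i' planes) C' = true) (h4 : Nat.beq (scaleN i') s' = true)
    (h : ∀ q, ruRj (decv C s) q = decv C' s' q) : Main.hyp.hom j i = i' := by
  rw [Hyp.hom_apply]
  apply Main.hyp.im_unique _ _ _ e
  have e1 : vec i = decv C s := by rw [← vec_code h1 h2, pow_zero, one_smul]
  rw [vec_code h3 h4, ← funext h, ← e1]
  rfl

theorem im_k {i i' : Fin 4060} (e C s C' s' : ℕ)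
    (h1 : Nat.beq (packL 0 i planes) C = true) (h2 : Nat.beq (scaleN i) s = true)
    (h3 : Nat.beq (packL e i' planes) C' = true) (h4 : Nat.beq (scaleN i') s' = true)
    (h : ∀ q, ruRk (decv C s) q = decv C' s' q) : Main.hyp.hom k i = i' := by
  rw [Hyp.hom_apply]
  apply Main.hyp.im_unique _ _ _ e
  have e1 : vec i = decv C s := by rw [← vec_code h1 h2, pow_zero, one_smul]
  rw [vec_code h3 h4, ← funext h, ← e1]
  rfl

theorem j0 : Main.hyp.hom j 0 = 580 :=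
  im_j 0 0x1 4 0x10 4 (by decide +kernel) (by decide +kernel) (by decide +kernel) (by decide +kernel)
    (by decide +kernel)
theorem j1 : Main.hyp.hom j 29 = 638 :=
  im_j 0 0x4592d100068900000024c 1 0x6942530008d200000064a 1 (by decide +kernel) (by decide +kernel) (by decide +kernel)
    (by decide +kernel) (by decide +kernel)
theorem j2 : Main.hyp.hom j 580 = 0 :=
  im_j 2 0x10 4 0x3 4 (by decide +kernel) (by decide +kernel) (by decide +kernel) (by decide +kernel)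
    (by decide +kernel)
theorem j3 : Main.hyp.hom j 577 = 3680 :=
  im_j 2 0x2184010436c070080231c 1 0x440906202c04c011844c 1 (by decide +kernel) (by decide +kernel) (by decide +kernel)
    (by decide +kernel) (by decide +kernel)
theorem k0 : Main.hyp.hom k 0 = 161 :=
  im_k 0 0x1 4 0x80 4 (by decide +kernel) (by decide +kernel) (by decide +kernel) (by decide +kernel)
    (by decide +kernel)
theorem k1 : Main.hyp.hom k 29 = 667 :=
  im_k 0 0x4592d100068900000024c 1 0x6a249c00028b00000025a 1 (by decide +kernel) (by decide +kernel) (by decide +kernel)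
    (by decide +kernel) (by decide +kernel)
theorem k2 : Main.hyp.hom k 580 = 1544 :=
  im_k 0 0x10 4 0x400 4 (by decide +kernel) (by decide +kernel) (by decide +kernel) (by decide +kernel)
    (by decide +kernel)
theorem k3 : Main.hyp.hom k 577 = 1124 :=
  im_k 2 0x2184010436c070080231c 1 0x6180a010200c0090d0659 1 (by decide +kernel) (by decide +kernel) (by decide +kernel)
    (by decide +kernel) (by decide +kernel)

/-! ### the words -/

/-- equality with a word from the images of the base lines -/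
theorem eq_wprod {g : RuOrder.H} {w : List ℕ} (h1 : Nat.beq (evalK w 0) ((g : Equiv.Perm (Fin 4060)) b1 : ℕ) = true)
    (h2 : Nat.beq (evalK w 29) ((g : Equiv.Perm (Fin 4060)) b2 : ℕ) = true)
    (h3 : Nat.beq (evalK w 580) ((g : Equiv.Perm (Fin 4060)) b3 : ℕ) = true)
    (h4 : Nat.beq (evalK w 577) ((g : Equiv.Perm (Fin 4060)) b4 : ℕ) = true) : wprod ml w = g := by
  apply Cfsg.Agent.RuD.Letters.eq_of_base
  intro b hb
  rw [evalK_eq]
  simp only [List.mem_cons, List.not_mem_nil, or_false] at hb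
  rcases hb with rfl | rfl | rfl | rfl
  · exact Nat.eq_of_beq_eq_true h1
  · exact Nat.eq_of_beq_eq_true h2
  · exact Nat.eq_of_beq_eq_true h3
  · exact Nat.eq_of_beq_eq_true h4

/-- the word of the right multiplication by `j` -/
def wj : List ℕ := [1,1,3,0,5,1,3,5,1,7,4,5] ++ [0] ++ [5,8,3,6,5,7,6,5,0,7,6,6]
/-- the word of the right multiplication by `k` -/
def wk : List ℕ := [1,1,3,0,5,1,3,5,1,7,4,5] ++ [4,0,8] ++ [5,8,3,6,5,7,6,5,0,7,6,6]

private noncomputable def _root_.Cfsg.Agent.KO9836bcc.k72 : (by first | exact type_of% @Cfsg.Agent.RuD.Letters.forceN | exact Unit : Sort _) := by first | (refine @Subtype.val _ (fun g => @Cfsg.Agent.RuD.Letters.forceN = @g) (@Subtype.mk _ _ (@(fun x0 x1 => @Nat.rec.{1} @(fun x2 => ℕ) (@x1 (nat_lit 0)) @(fun x2 x3 => @x1 (@Nat.succ @x2)) @x0)) ?_); rfl') | exact @Cfsg.Agent.RuD.Letters.forceN | exact ()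
private theorem _root_.Cfsg.Agent.KO9836bcc.e72 : (by first | exact @Cfsg.Agent.RuD.Letters.forceN = @_root_.Cfsg.Agent.KO9836bcc.k72 | exact True : Prop) := by first | (delta _root_.Cfsg.Agent.KO9836bcc.k72; exact @Subtype.property _ (fun g => @Cfsg.Agent.RuD.Letters.forceN = @g) _) | rfl | trivial
private noncomputable def _root_.Cfsg.Agent.KO9836bcc.k73 : (by first | exact type_of% @Cfsg.Agent.Lib.BitNet.sw | exact Unit : Sort _) := by first | (refine @Subtype.val _ (fun g => @Cfsg.Agent.Lib.BitNet.sw = @g) (@Subtype.mk _ _ (@(fun x0 x1 x2 => @Bool.rec.{1} @(fun x3 => ℕ) (@Bool.rec.{1} @(fun x3 => ℕ) @x2 (@Nat.sub @x2 @x0) (@Bool.rec.{1} @(fun x3 => @Bool) @Bool.false (@Bool.rec.{1} @(fun x3 => @Bool) @Bool.true @Bool.false (@Cfsg.Agent.KO9836bcc.k2.{1} @Bool (@Nat.land (nat_lit 1) (@Nat.shiftRight @x1 (@Nat.sub @x2 @x0))) (nat_lit 0) @Bool.false @Bool.true)) (@Nat.ble @x0 @x2))) (@Nat.add @x2 @x0) (@Bool.rec.{1}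 @(fun x3 => @Bool) @Bool.true @Bool.false (@Cfsg.Agent.KO9836bcc.k2.{1} @Bool (@Nat.land (nat_lit 1) (@Nat.shiftRight @x1 @x2)) (nat_lit 0) @Bool.false @Bool.true)))) ?_); rewrite [← Cfsg.Agent.KO9836bcc.e2.{1}]; rfl') | exact @Cfsg.Agent.Lib.BitNet.sw | exact ()
private theorem _root_.Cfsg.Agent.KO9836bcc.e73 : (by first | exact @Cfsg.Agent.Lib.BitNet.sw = @_root_.Cfsg.Agent.KO9836bcc.k73 | exact True : Prop) := by first | (delta _root_.Cfsg.Agent.KO9836bcc.k73; exact @Subtype.property _ (fun g => @Cfsg.Agent.Lib.BitNet.sw = @g) _) | rfl | trivial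
private noncomputable def _root_.Cfsg.Agent.KO9836bcc.k74 : (by first | exact type_of% @Cfsg.Agent.RuD.Letters.appK | exact Unit : Sort _) := by first | (refine @Subtype.val _ (fun g => @Cfsg.Agent.RuD.Letters.appK = @g) (@Subtype.mk _ _ (@(fun x0 => @List.rec.{1, 0} (ℕ × ℕ) @(fun x1 => ℕ → ℕ) @(fun x1 => @x1) @(fun x1 x2 x3 x4 => @Cfsg.Agent.KO9836bcc.k72 (@Cfsg.Agent.KO9836bcc.k73 (@Prod.fst.{0, 0} _ _ @x1) (@Prod.snd.{0, 0} _ _ @x1) @x4) @x3) @x0)) ?_); rewrite [← Cfsg.Agent.KO9836bcc.e73, ← Cfsg.Agent.KO9836bcc.e72]; (try delta Cfsg.Agent.RuD.Letters.appK); (try generalize @Cfsg.Agent.RuD.Letters.forceN = g0); (try generalize @Cfsg.Agent.Lib.BitNet.sw = g1); rfl') | exact @Cfsg.Agent.RuD.Letters.appK | exact ()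
private theorem _root_.Cfsg.Agent.KO9836bcc.e74 : (by first | exact @Cfsg.Agent.RuD.Letters.appK = @_root_.Cfsg.Agent.KO9836bcc.k74 | exact True : Prop) := by first | (delta _root_.Cfsg.Agent.KO9836bcc.k74; exact @Subtype.property _ (fun g => @Cfsg.Agent.RuD.Letters.appK = @g) _) | rfl | trivial
private noncomputable def _root_.Cfsg.Agent.KO9836bcc.k75 : (by first | exact type_of% @Cfsg.Agent.RuD.Letters.evalK | exact Unit : Sort _) := by first | (refine @Subtype.val _ (fun g => @Cfsg.Agent.RuD.Letters.evalK = @g) (@Subtype.mk _ _ (@(fun x0 x1 => @List.rec.{1, 0} ℕ @(fun x2 => ℕ) @x1 @(fun x2 x3 x4 => @Cfsg.Agent.KO9836bcc.k72 @x4 (@Cfsg.Agent.KO9836bcc.k74 (@Cfsg.Agent.RuD.Letters.nthL @Cfsg.Agent.RuD.Letters.NL @x2))) @x0)) ?_); rewrite [← Cfsg.Agent.KO9836bcc.e74, ← Cfsg.Agent.KO9836bcc.e72]; (try delta Cfsg.Agent.RuD.Letters.evalK); (try generalize @Cfsg.Agent.RuD.Letters.forceN = g0); (try generalize @Cfsg.Agent.RuD.Letters.appK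 = g1); (try generalize @Cfsg.Agent.RuD.Letters.nthL = g2); (try generalize @Cfsg.Agent.RuD.Letters.NL = g3); rfl') | exact @Cfsg.Agent.RuD.Letters.evalK | exact ()
private theorem _root_.Cfsg.Agent.KO9836bcc.e75 : (by first | exact @Cfsg.Agent.RuD.Letters.evalK = @_root_.Cfsg.Agent.KO9836bcc.k75 | exact True : Prop) := by first | (delta _root_.Cfsg.Agent.KO9836bcc.k75; exact @Subtype.property _ (fun g => @Cfsg.Agent.RuD.Letters.evalK = @g) _) | rfl | trivial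

theorem eval_j : (Nat.beq (evalK wj 0) 580 && (Nat.beq (evalK wj 29) 638 && (Nat.beq (evalK wj 580) 0 &&
    Nat.beq (evalK wj 577) 3680))) = true := by (first | (rewrite [Cfsg.Agent.KO9836bcc.e16, Cfsg.Agent.KO9836bcc.e75]; decide +kernel) | decide +kernel)
theorem eval_k : (Nat.beq (evalK wk 0) 161 && (Nat.beq (evalK wk 29) 667 && (Nat.beq (evalK wk 580) 1544 &&
    Nat.beq (evalK wk 577) 1124))) = true := by (first | (rewrite [Cfsg.Agent.KO9836bcc.e16, Cfsg.Agent.KO9836bcc.e75]; decide +kernel) | decide +kernel)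

theorem word_j : wprod ml wj = (Main.equiv (qm j) : RuOrder.H) := by
  have h := eval_j
  simp only [Bool.and_eq_true] at h
  obtain ⟨h1, h2, h3, h4⟩ := h
  refine eq_wprod ?_ ?_ ?_ ?_ <;> rw [equiv_qm]
  · rw [show (b1 : Fin 4060) = 0 from rfl, j0]; exact h1
  · rw [show (b2 : Fin 4060) = 29 from rfl, j1]; exact h2
  · rw [show (b3 : Fin 4060) = 580 from rfl, j2]; exact h3
  · rw [show (b4 : Fin 4060) = 577 from rfl, j3]; exact h4

theorem word_k : wprod ml wk = (Main.equiv (qm k) : RuOrder.H) := by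
  have h := eval_k
  simp only [Bool.and_eq_true] at h
  obtain ⟨h1, h2, h3, h4⟩ := h
  refine eq_wprod ?_ ?_ ?_ ?_ <;> rw [equiv_qm]
  · rw [show (b1 : Fin 4060) = 0 from rfl, k0]; exact h1
  · rw [show (b2 : Fin 4060) = 29 from rfl, k1]; exact h2
  · rw [show (b3 : Fin 4060) = 580 from rfl, k2]; exact h3
  · rw [show (b4 : Fin 4060) = 577 from rfl, k3]; exact h4

/-! ### the fusing element -/

/-- the element of `Ru` of a word -/
noncomputable def Wd (w : List ℕ) : Ru := Main.equiv.symm (wprod ml w)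

theorem Wd_append (v w : List ℕ) : Wd (v ++ w) = Wd v * Wd w := by
  rw [Wd, wprod_append, map_mul]; rfl

theorem Wd_of_eq {w : List ℕ} {y : fourRu} (h : wprod ml w = (Main.equiv (qm y) : RuOrder.H)) : Wd w = qm y := by
  rw [Wd, h, MulEquiv.symm_apply_apply]

/-- a relator gives a trivial word -/
theorem Wd_eq_one {w : List ℕ} (h : chkRel [w] = true) : Wd w = 1 := by
  rw [Wd, rel_of_chk h w (List.mem_singleton.2 rfl), map_one]

/-- an element of order dividing 7 which commutes with `u` modulo the centre commutes with `u` -/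
theorem comm_lift {a u : fourRu} (ha : qm a ^ 7 = 1) (hau : qm a * qm u = qm u * qm a) : a * u = u * a := by
  have hz : qm (a * u * a⁻¹ * u⁻¹) = 1 := by
    rw [map_mul, map_mul, map_mul, hau, map_inv, map_inv]; group
  obtain ⟨z, hz'⟩ : ∃ z, z = a * u * a⁻¹ * u⁻¹ := ⟨_, rfl⟩
  rw [← hz'] at hz
  have hzc : ∀ y, z * y = y * z := fun y => (mem_center_iff.1 (ker_qm hz) y).symm
  have h1 : ∀ n : ℕ, a ^ n * u * (a ^ n)⁻¹ = z ^ n * u := by
    intro n
    induction n with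
    | zero => simp only [_root_.pow_zero, _root_.one_mul, _root_.inv_one, _root_.mul_one]
    | succ n ih =>
      calc a ^ (n + 1) * u * (a ^ (n + 1))⁻¹ = a * (a ^ n * u * (a ^ n)⁻¹) * a⁻¹ := by rw [pow_succ']; group
        _ = a * (z ^ n * u) * a⁻¹ := by rw [ih]
        _ = (a * z ^ n) * u * a⁻¹ := by group
        _ = (z ^ n * a) * u * a⁻¹ := by rw [((show Commute z a from hzc a).pow_left n).eq]
        _ = z ^ n * (a * u * a⁻¹ * u⁻¹) * u := by group
        _ = z ^ (n + 1) * u := by rw [← hz', pow_succ]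
  have h7 : z ^ 7 = 1 := by
    have h2 := h1 7
    have h3 : qm (a ^ 7) = 1 := by rw [map_pow, ha]
    have h4 := mem_center_iff.1 (ker_qm h3) u
    have h5 : a ^ 7 * u * (a ^ 7)⁻¹ = 1 * u := by rw [← h4]; group
    rw [h5] at h2
    exact (mul_right_cancel h2).symm
  have h4 : z ^ 4 = 1 := by
    have h5 : (⟨z, ker_qm hz⟩ : center fourRu) ^ Nat.card (center fourRu) = 1 := pow_card_eq_one'
    rw [Main.main.1] at h5
    exact congrArg Subtype.val h5
  have hz1 : z = 1 := by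
    calc z = z ^ 4 * z ^ 4 * (z ^ 7)⁻¹ := by group
      _ = 1 := by rw [h4, h7]; simp only [_root_.mul_one, _root_.inv_one]
  rw [hz'] at hz1
  calc a * u = (a * u * a⁻¹ * u⁻¹) * (u * a) := by group
    _ = u * a := by rw [hz1, one_mul]

/-- the conjugating word -/
def wh : List ℕ := [1,1,3,0,5,1,3,5,1,7,4,5]
def wh' : List ℕ := [5,8,3,6,5,7,6,5,0,7,6,6]

private noncomputable def _root_.Cfsg.Agent.KO9836bcc.k76 : (by first | exact type_of% @Cfsg.Agent.RuD.Letters.chkRel | exact Unit : Sort _) := by first | (refine @Subtype.val _ (fun g => @Cfsg.Agent.RuD.Letters.chkRel = @g) (@Subtype.mk _ _ (@(fun x0 => @Cfsg.Agent.SporRec.R3.Kernel.allL _ @(fun x1 => @Cfsg.Agent.SporRec.R3.Kernel.allL _ @(fun x2 => @Nat.beq (@Cfsg.Agent.KO9836bcc.k75 @x1 @x2) @x2) ((nat_lit 0) :: ((nat_lit 29) :: ((nat_lit 580) :: ((nat_lit 577) :: []))))) @x0)) ?_); rewrite [← Cfsg.Agent.KO9836bcc.e75]; (try delta Cfsg.Agent.RuD.Letters.chkRel);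 (try generalize @Cfsg.Agent.SporRec.R3.Kernel.allL = g0); (try generalize @Cfsg.Agent.RuD.Letters.evalK = g1); rfl') | exact @Cfsg.Agent.RuD.Letters.chkRel | exact ()
private theorem _root_.Cfsg.Agent.KO9836bcc.e76 : (by first | exact @Cfsg.Agent.RuD.Letters.chkRel = @_root_.Cfsg.Agent.KO9836bcc.k76 | exact True : Prop) := by first | (delta _root_.Cfsg.Agent.KO9836bcc.k76; exact @Subtype.property _ (fun g => @Cfsg.Agent.RuD.Letters.chkRel = @g) _) | rfl | trivial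

theorem rels_ok : chkRel [wh ++ wh', [3,3,3,3,3,3,3], [1,3,1,3,1,3,1,3,1,3,1,3,1,3], [3,7], [4,8], [0,0], [1,6],
    [1,3] ++ [4,0,8] ++ [7,6] ++ [4,0,8], [7] ++ [4,0,8] ++ [3] ++ [4,0,8]] = true := by (first | (rewrite [Cfsg.Agent.KO9836bcc.e76]; decide +kernel) | decide +kernel)

theorem fus_T {a b : fourRu} (ha : qm a ^ 7 = 1) (hb : qm b ^ 7 = 1) (hau : qm a * Wd [4,0,8] = Wd [4,0,8] * qm a)
    (hbu : qm b * Wd [4,0,8] = Wd [4,0,8] * qm b) : Fus (Wd [0] * qm a * qm b) := by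
  obtain ⟨h, hh⟩ := qm_surj (Wd wh)
  have e1 : Wd wh * Wd wh' = 1 := by
    rw [← Wd_append, Wd, rel_of_chk rels_ok _ (List.mem_cons_self ..), map_one]
  have e2 : Wd wh' = (qm h)⁻¹ := by rw [hh]; exact (inv_eq_of_mul_eq_one_right (e1 :)).symm
  have hj : qm (h⁻¹ * j * h) = Wd [0] := by
    rw [map_mul, map_mul, map_inv, ← Wd_of_eq word_j, show wj = wh ++ [0] ++ wh' from rfl, Wd_append, Wd_append, e2,
      ← hh]
    group
  have hk : qm (h⁻¹ * k * h) = Wd [4,0,8] := by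
    rw [map_mul, map_mul, map_inv, ← Wd_of_eq word_k, show wk = wh ++ [4,0,8] ++ wh' from rfl, Wd_append, Wd_append,
      e2, ← hh]
    group
  have ca : a * (h⁻¹ * k * h) = (h⁻¹ * k * h) * a := comm_lift ha (by rw [hk, hau])
  have cb : b * (h⁻¹ * k * h) = (h⁻¹ * k * h) * b := comm_lift hb (by rw [hk, hbu])
  refine ⟨h⁻¹ * j * h * a * b, h⁻¹ * k * h, by rw [map_mul, map_mul, hj], ?_⟩
  have hnu : k * j * k⁻¹ = j * nu := by
    have h1 : nu⁻¹ = nu := by
      have h2 := pow_orderOf_eq_one nu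
      rw [orderOf_comm, pow_two] at h2
      exact (inv_eq_of_mul_eq_one_right h2 :)
    calc k * j * k⁻¹ = (j * k * j⁻¹ * k⁻¹)⁻¹ * j := by group
      _ = nu⁻¹ * j := rfl
      _ = j * nu := by rw [h1, nu_central]
  have key : ∀ u : fourRu, a * u = u * a → b * u = u * b → ∀ t : fourRu, u * t * u⁻¹ = t * nu →
      u * (t * a * b) * u⁻¹ = t * a * b * nu := by
    intro u h1 h2 t h3
    have h4 : u * a * u⁻¹ = a := by rw [← h1]; group
    have h5 : u * b * u⁻¹ = b := by rw [← h2]; group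
    calc u * (t * a * b) * u⁻¹ = (u * t * u⁻¹) * (u * a * u⁻¹) * (u * b * u⁻¹) := by group
      _ = t * (nu * (a * b)) := by rw [h3, h4, h5]; group
      _ = t * ((a * b) * nu) := by rw [nu_central]
      _ = t * a * b * nu := by group
  refine key _ ca cb _ ?_
  calc h⁻¹ * k * h * (h⁻¹ * j * h) * (h⁻¹ * k * h)⁻¹ = h⁻¹ * (k * j * k⁻¹) * h := by group
    _ = h⁻¹ * j * (nu * h) := by rw [hnu]; group
    _ = h⁻¹ * j * (h * nu) := by rw [nu_central]
    _ = h⁻¹ * j * h * nu := by group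

theorem Wd_rel {w : List ℕ} (h : w ∈ [wh ++ wh', [3,3,3,3,3,3,3], [1,3,1,3,1,3,1,3,1,3,1,3,1,3], [3,7], [4,8], [0,0],
    [1,6], [1,3] ++ [4,0,8] ++ [7,6] ++ [4,0,8], [7] ++ [4,0,8] ++ [3] ++ [4,0,8]]) : Wd w = 1 := by
  rw [Wd, rel_of_chk rels_ok _ h, map_one]

/-- **`T S` has a lift conjugate to its product by `-1`** -/
theorem fus_TS : Fus (Wd [0,1]) := by
  obtain ⟨a, ha⟩ := qm_surj (Wd [1,3])
  obtain ⟨b, hb⟩ := qm_surj (Wd [7])
  have hUU : Wd [4,0,8] * Wd [4,0,8] = 1 := by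
    have h1 : Wd [4] * Wd [8] = 1 := by rw [← Wd_append]; exact Wd_rel (by simp)
    have h2 : Wd [0] * Wd [0] = 1 := by rw [← Wd_append]; exact Wd_rel (by simp)
    have h3 : Wd [4,0,8] = Wd [4] * Wd [0] * Wd [8] := by rw [← Wd_append, ← Wd_append]; rfl
    have h4 : Wd [8] = (Wd [4])⁻¹ := (inv_eq_of_mul_eq_one_right (h1 :)).symm
    rw [h3, h4]
    calc Wd [4] * Wd [0] * (Wd [4])⁻¹ * (Wd [4] * Wd [0] * (Wd [4])⁻¹) = Wd [4] * (Wd [0] * Wd [0]) * (Wd [4])⁻¹ := by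
          group
      _ = 1 := by rw [h2]; group
  have h37 : Wd [3] * Wd [7] = 1 := by rw [← Wd_append]; exact Wd_rel (by simp)
  have h16 : Wd [1] * Wd [6] = 1 := by rw [← Wd_append]; exact Wd_rel (by simp)
  have e13 : Wd [1,3] = Wd [1] * Wd [3] := by rw [← Wd_append]; rfl
  have e76 : Wd [7,6] = (Wd [1,3])⁻¹ := by
    have h1 : Wd [7,6] = Wd [7] * Wd [6] := by rw [← Wd_append]; rfl
    rw [h1, e13, mul_inv_rev, ← inv_eq_of_mul_eq_one_right h37, ← inv_eq_of_mul_eq_one_right h16]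
  have e7 : Wd [7] = (Wd [3])⁻¹ := (inv_eq_of_mul_eq_one_right h37).symm
  have p7 : Wd [3] ^ 7 = 1 := by
    have h1 : Wd [3,3,3,3,3,3,3] = 1 := Wd_rel (by simp)
    rw [← h1, show ([3,3,3,3,3,3,3] : List ℕ) = [3] ++ [3] ++ [3] ++ [3] ++ [3] ++ [3] ++ [3] from rfl]
    simp only [Wd_append, pow_succ, pow_zero, one_mul]
  have q7 : Wd [1,3] ^ 7 = 1 := by
    have h1 : Wd [1,3,1,3,1,3,1,3,1,3,1,3,1,3] = 1 := Wd_rel (by simp)
    rw [← h1, show ([1,3,1,3,1,3,1,3,1,3,1,3,1,3] : List ℕ) =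
      [1,3] ++ [1,3] ++ [1,3] ++ [1,3] ++ [1,3] ++ [1,3] ++ [1,3] from rfl]
    simp only [Wd_append, pow_succ, pow_zero, one_mul]
  have c1 : Wd [1,3] * Wd [4,0,8] = Wd [4,0,8] * Wd [1,3] := by
    have h1 : Wd [1,3] * Wd [4,0,8] * Wd [7,6] * Wd [4,0,8] = 1 := by
      rw [← Wd_append, ← Wd_append, ← Wd_append]; exact Wd_rel (by simp)
    rw [e76] at h1
    calc Wd [1,3] * Wd [4,0,8] = (Wd [1,3] * Wd [4,0,8] * (Wd [1,3])⁻¹ * Wd [4,0,8]) * (Wd [4,0,8])⁻¹ * Wd [1,3] := by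
          group
      _ = Wd [4,0,8] * Wd [1,3] := by rw [h1, one_mul, ← eq_inv_of_mul_eq_one_left (hUU :)]
  have c2 : Wd [7] * Wd [4,0,8] = Wd [4,0,8] * Wd [7] := by
    have h1 : Wd [7] * Wd [4,0,8] * Wd [3] * Wd [4,0,8] = 1 := by
      rw [← Wd_append, ← Wd_append, ← Wd_append]; exact Wd_rel (by simp)
    have h3 : Wd [3] = (Wd [7])⁻¹ := by rw [e7, inv_inv]
    rw [h3] at h1
    calc Wd [7] * Wd [4,0,8] = (Wd [7] * Wd [4,0,8] * (Wd [7])⁻¹ * Wd [4,0,8]) * (Wd [4,0,8])⁻¹ * Wd [7] := by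
          group
      _ = Wd [4,0,8] * Wd [7] := by rw [h1, one_mul, ← eq_inv_of_mul_eq_one_left hUU]
  have h := fus_T (a := a) (b := b) (by rw [ha, q7]) (by rw [hb, e7, inv_pow, p7, inv_one]) (by rw [ha, c1])
    (by rw [hb, c2])
  rw [ha, hb, e13, e7] at h
  have h3 : Wd [0] * (Wd [1] * Wd [3]) * (Wd [3])⁻¹ = Wd [0,1] := by
    rw [show ([0,1] : List ℕ) = [0] ++ [1] from rfl, Wd_append]; group
  rwa [h3] at h

end Cfsg.Agent.H33.QRu
end

-- part: H33/QRu/Tool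
section
/-!
# Commutators `[T S, k]` in the classes of the Rudvalis group: the checks (helper33)
-/

set_option autoImplicit false

namespace Cfsg.Agent.H33.QRu

open Cfsg.Spor Cfsg.Agent.RuLat Cfsg.Agent.SporadicB Cfsg.Agent.RuD.Letters Cfsg.Agent.Lib Cfsg.Agent.Lib.BitNet
open Cfsg.Agent.SporRec.TCUpperCert

/-- `g` is conjugate to a commutator `[x, y]` with `x` fusing -/
def Good (g : Ru) : Prop := ∃ x y : Ru, Fus x ∧ (IsConj g (x * y * x⁻¹ * y⁻¹) :)

theorem Good.inv {g : Ru} (h : Good g) : (Good g⁻¹ :) := by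
  obtain ⟨x, y, hx, hg⟩ := h
  obtain ⟨c, hc⟩ := isConj_iff.1 hg
  refine ⟨y * x * y⁻¹, y⁻¹, hx.conj y, isConj_iff.2 ⟨c, ?_⟩⟩
  calc c * g⁻¹ * c⁻¹ = (c * g * c⁻¹)⁻¹ := by group
    _ = (x * y * x⁻¹ * y⁻¹)⁻¹ := by rw [hc]
    _ = _ := by group

theorem Good.of_isConj {g g' : Ru} (h : Good g) (e : IsConj g' g) : Good g' := by
  obtain ⟨x, y, hx, hg⟩ := h
  exact ⟨x, y, hx, e.trans hg⟩

/-- inverse letters -/
def iv : List ℕ := [0, 6, 2, 7, 8, 5, 1, 3, 4]

/-- the inverse word -/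
def ivw (w : List ℕ) : List ℕ := (w.map (iv.getD · 0)).reverse

theorem Wd_iv : ∀ a < 9, Wd [a] * Wd [iv.getD a 0] = 1 := by
  have h : chkRel [[0,0],[1,6],[2,2],[3,7],[4,8],[5,5],[6,1],[7,3],[8,4]] = true := by (first | (rewrite [Cfsg.Agent.KO9836bcc.e76]; decide +kernel) | decide +kernel)
  have key := rel_of_chk h
  intro a ha
  rw [← Wd_append, Wd]
  interval_cases a <;> rw [key _ (by simp [iv]), map_one]

theorem Wd_ivw {w : List ℕ} (h : w.all (· < 9) = true) : Wd (ivw w) = (Wd w)⁻¹ := by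
  induction w with
  | nil => rw [show ivw [] = [] from rfl, show Wd [] = 1 from map_one _, inv_one]
  | cons a w ih =>
    rw [List.all_cons, Bool.and_eq_true] at h
    have h1 : ivw (a :: w) = ivw w ++ [iv.getD a 0] := by simp [ivw]
    have h2 : Wd (a :: w) = Wd [a] * Wd w := by rw [← Wd_append]; rfl
    rw [h1, Wd_append, ih h.2, h2, mul_inv_rev, inv_eq_of_mul_eq_one_right (Wd_iv a (by simpa using h.1))]

/-- the check: `g w g⁻¹ = [T S, k]` -/
theorem good_of_chk {w : List ℕ} (g k : List ℕ) (hg : g.all (· < 9) = true) (hk : k.all (· < 9) = true)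
    (h : chkRel [g ++ w ++ ivw g ++ (k ++ [0,1] ++ ivw k ++ [6,0])] = true) : Good (Wd w) := by
  have h1 := Wd_eq_one h
  simp only [Wd_append] at h1
  rw [Wd_ivw hg, Wd_ivw hk] at h1
  have h2 : Wd [6,0] = (Wd [0,1])⁻¹ := Wd_ivw (w := [0,1]) rfl
  rw [h2] at h1
  refine ⟨Wd [0,1], Wd k, fus_TS, isConj_iff.2 ⟨Wd g, ?_⟩⟩
  calc Wd g * Wd w * (Wd g)⁻¹ = (Wd g * Wd w * (Wd g)⁻¹ * (Wd k * Wd [0,1] * (Wd k)⁻¹ * (Wd [0,1])⁻¹)) *
        (Wd [0,1] * Wd k * (Wd [0,1])⁻¹ * (Wd k)⁻¹) := by group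
    _ = _ := by rw [h1, one_mul]

end Cfsg.Agent.H33.QRu
end

-- part: H33/QRu/Row
section
/-!
# Ore's theorem for the double cover of the Rudvalis group: the row (helper33)

Every nontrivial class of the Rudvalis group (`H51.Ore.Ru.cover`) contains a commutator `[T S, k]`.
-/

set_option autoImplicit false
set_option maxRecDepth 100000

namespace Cfsg.Agent.H33.QRu

open Cfsg.Spor Cfsg.Agent.RuLat Cfsg.Agent.SporadicB Cfsg.Agent.RuD.Letters Cfsg.Agent.H6.QO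
open Cfsg.Agent.SporRec.TCUpperCert

private noncomputable def _root_.Cfsg.Agent.KO9836bcc.k78.{ku0} : type_of% @List.get?Internal.{ku0} := @(fun x0 x1 x2 => @List.rec.{(ku0+1), ku0} @x0 @(fun x3 => ℕ → @Option.{ku0} @x0) @(fun x3 => @Option.none.{ku0} _) @(fun x3 x4 x5 x6 => @Nat.rec.{(ku0+1)} @(fun x7 => @Option.{ku0} @x0) (@Option.some.{ku0} _ @x3) @(fun x7 x8 => @x5 @x7) @x6) @x1 @x2)
private theorem _root_.Cfsg.Agent.KO9836bcc.e78.{ku0} : @List.get?Internal.{ku0} = @_root_.Cfsg.Agent.KO9836bcc.k78.{ku0} := by delta _root_.Cfsg.Agent.KO9836bcc.k78; funext a0 a1 a2; refine (congrFun (_root_.Cfsg.Agent.KO9836bcc.e0 (fun a1 a2 => @List.get?Internal.{ku0} a0 a1 a2) ?_ (fun c0 c1 => ?_) a1) a2 :) <;> [(funext b0; (rfl')); (funext b0; (cases b0 with | @zero  => (rfl') | @succ b0_0 => (rfl')))]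
private noncomputable def _root_.Cfsg.Agent.KO9836bcc.k79 : (by first | exact type_of% @Cfsg.Agent.H33.QRu.ivw | exact Unit : Sort _) := by first | (refine @Subtype.val _ (fun g => @Cfsg.Agent.H33.QRu.ivw = @g) (@Subtype.mk _ _ (@(fun x0 => @Cfsg.Agent.KO9836bcc.k11.{0} _ (@Cfsg.Agent.KO9836bcc.k20.{0, 0} _ _ @(fun x1 => @Option.rec.{1, 0} ℕ @(fun x2 => ℕ) (nat_lit 0) @(fun x2 => @x2) (@Cfsg.Agent.KO9836bcc.k78.{0} _ @Cfsg.Agent.H33.QRu.iv @x1)) @x0) [])) ?_); rewrite [← Cfsg.Agent.KO9836bcc.e78.{0}, ← Cfsg.Agent.KO9836bcc.e20.{0, 0}, ← Cfsg.Agent.KO9836bcc.e11.{0}]; (try delta Cfsg.Agent.H33.QRu.ivw); (try generalize @Cfsg.Agent.H33.QRu.iv = g0); rfl') | exact @Cfsg.Agent.H33.QRu.ivw | exact ()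
private theorem _root_.Cfsg.Agent.KO9836bcc.e79 : (by first | exact @Cfsg.Agent.H33.QRu.ivw = @_root_.Cfsg.Agent.KO9836bcc.k79 | exact True : Prop) := by first | (delta _root_.Cfsg.Agent.KO9836bcc.k79; exact @Subtype.property _ (fun g => @Cfsg.Agent.H33.QRu.ivw = @g) _) | rfl | trivial

theorem q_2a : Good (Wd H51.Ore.Ru.w_2a) :=
  good_of_chk [4] [4] rfl rfl (by (first | (rewrite [Cfsg.Agent.KO9836bcc.e76, Cfsg.Agent.KO9836bcc.e79]; decide +kernel) | decide +kernel))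
theorem q_2b : Good (Wd H51.Ore.Ru.w_2b) :=
  good_of_chk [7,2] [3,1,7] rfl rfl (by (first | (rewrite [Cfsg.Agent.KO9836bcc.e76, Cfsg.Agent.KO9836bcc.e79]; decide +kernel) | decide +kernel))
theorem q_3a : Good (Wd H51.Ore.Ru.w_3a) :=
  good_of_chk [0] [5] rfl rfl (by (first | (rewrite [Cfsg.Agent.KO9836bcc.e76, Cfsg.Agent.KO9836bcc.e79]; decide +kernel) | decide +kernel))
theorem q_4a : Good (Wd H51.Ore.Ru.w_4a) :=
  good_of_chk [8,1] [3] rfl rfl (by (first | (rewrite [Cfsg.Agent.KO9836bcc.e76, Cfsg.Agent.KO9836bcc.e79]; decide +kernel) | decide +kernel))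
theorem q_4b : Good (Wd H51.Ore.Ru.w_4b) :=
  good_of_chk [4,7,5,3,6,4,7,5,3,6,3,0] [7,5,3] rfl rfl (by (first | (rewrite [Cfsg.Agent.KO9836bcc.e76, Cfsg.Agent.KO9836bcc.e79]; decide +kernel) | decide +kernel))
theorem q_4c : Good (Wd H51.Ore.Ru.w_4c) :=
  good_of_chk [6,4,3,0,5,1] [4,3,5] rfl rfl (by (first | (rewrite [Cfsg.Agent.KO9836bcc.e76, Cfsg.Agent.KO9836bcc.e79]; decide +kernel) | decide +kernel))
theorem q_4d : Good (Wd H51.Ore.Ru.w_4d) :=
  good_of_chk [4,3,5,7,5,7,5,1,7,5,0,8,6,7,0] [3,4] rfl rfl (by (first | (rewrite [Cfsg.Agent.KO9836bcc.e76, Cfsg.Agent.KO9836bcc.e79]; decide +kernel) | decide +kernel))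
theorem q_5a : Good (Wd H51.Ore.Ru.w_5a) :=
  good_of_chk [1] [2] rfl rfl (by (first | (rewrite [Cfsg.Agent.KO9836bcc.e76, Cfsg.Agent.KO9836bcc.e79]; decide +kernel) | decide +kernel))
theorem q_5b : Good (Wd H51.Ore.Ru.w_5b) :=
  good_of_chk [8,3,5,0,3,6,7,5,3,1,3,0,8] [4,5] rfl rfl (by (first | (rewrite [Cfsg.Agent.KO9836bcc.e76, Cfsg.Agent.KO9836bcc.e79]; decide +kernel) | decide +kernel))
theorem q_6a : Good (Wd H51.Ore.Ru.w_6a) :=
  good_of_chk [5,3,6,2,3,6,5,7,1,3,5,2,1,0] [3,1,7,5] rfl rfl (by (first | (rewrite [Cfsg.Agent.KO9836bcc.e76, Cfsg.Agent.KO9836bcc.e79]; decide +kernel) | decide +kernel))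
theorem q_7a : Good (Wd H51.Ore.Ru.w_7a) :=
  good_of_chk [6,4,7,2,1,3,2,1] [2,7] rfl rfl (by (first | (rewrite [Cfsg.Agent.KO9836bcc.e76, Cfsg.Agent.KO9836bcc.e79]; decide +kernel) | decide +kernel))
theorem q_8a : Good (Wd H51.Ore.Ru.w_8a) :=
  good_of_chk [0,4,3,5,3,5,1,3,5,3,8,6,3,2,0] [5,3] rfl rfl (by (first | (rewrite [Cfsg.Agent.KO9836bcc.e76, Cfsg.Agent.KO9836bcc.e79]; decide +kernel) | decide +kernel))
theorem q_8b : Good (Wd H51.Ore.Ru.w_8b) :=
  good_of_chk [2,5,0,8,3,6,7,5,7,0,5,3,6,0,4] [4,5,3] rfl rfl (by (first | (rewrite [Cfsg.Agent.KO9836bcc.e76, Cfsg.Agent.KO9836bcc.e79]; decide +kernel) | decide +kernel))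
theorem q_8c : Good (Wd H51.Ore.Ru.w_8c) :=
  good_of_chk [0,8,5,3,5,1,3,3,5,1,3,3,6,7] [5,4,3] rfl rfl (by (first | (rewrite [Cfsg.Agent.KO9836bcc.e76, Cfsg.Agent.KO9836bcc.e79]; decide +kernel) | decide +kernel))
theorem q_10a : Good (Wd H51.Ore.Ru.w_10a) :=
  good_of_chk [4,2] [2,4] rfl rfl (by (first | (rewrite [Cfsg.Agent.KO9836bcc.e76, Cfsg.Agent.KO9836bcc.e79]; decide +kernel) | decide +kernel))
theorem q_10b : Good (Wd H51.Ore.Ru.w_10b) :=
  good_of_chk [7,7,5,0,1,7,6,3,5,7,2,1,3,2] [3,5,7] rfl rfl (by (first | (rewrite [Cfsg.Agent.KO9836bcc.e76, Cfsg.Agent.KO9836bcc.e79]; decide +kernel) | decide +kernel))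
theorem q_12a : Good (Wd H51.Ore.Ru.w_12a) :=
  good_of_chk [6,7,8,5,7,7,6,2,5,3,5,7,6,7,7,1,0] [3,4,5] rfl rfl (by (first | (rewrite [Cfsg.Agent.KO9836bcc.e76, Cfsg.Agent.KO9836bcc.e79]; decide +kernel) | decide +kernel))
theorem q_12b : Good (Wd H51.Ore.Ru.w_12b) :=
  good_of_chk [7,6,3,8,1,7,5,0,3,6,5,2,1,3,1,1,0] [2,5,7] rfl rfl (by (first | (rewrite [Cfsg.Agent.KO9836bcc.e76, Cfsg.Agent.KO9836bcc.e79]; decide +kernel) | decide +kernel))
theorem q_13a : Good (Wd H51.Ore.Ru.w_13a) :=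
  good_of_chk [8,7,6,4,7,2,1,1] [2,3] rfl rfl (by (first | (rewrite [Cfsg.Agent.KO9836bcc.e76, Cfsg.Agent.KO9836bcc.e79]; decide +kernel) | decide +kernel))
theorem q_14a : Good (Wd H51.Ore.Ru.w_14a) :=
  good_of_chk [6,6,3,5,3,6,5,0,4,7,5,7] [2,4,7] rfl rfl (by (first | (rewrite [Cfsg.Agent.KO9836bcc.e76, Cfsg.Agent.KO9836bcc.e79]; decide +kernel) | decide +kernel))
theorem q_14b : Good (Wd H51.Ore.Ru.w_14b) :=
  good_of_chk [0,6,6,5,7,6,2,3,1,3,6,5,7,1,3,8,2,1] [5,3,5] rfl rfl (by (first | (rewrite [Cfsg.Agent.KO9836bcc.e76, Cfsg.Agent.KO9836bcc.e79]; decide +kernel) | decide +kernel))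
theorem q_14c : Good (Wd H51.Ore.Ru.w_14c) :=
  good_of_chk [6,4,7,2,1,3,2,1] [2,7,4] rfl rfl (by (first | (rewrite [Cfsg.Agent.KO9836bcc.e76, Cfsg.Agent.KO9836bcc.e79]; decide +kernel) | decide +kernel))
theorem q_15a : Good (Wd H51.Ore.Ru.w_15a) :=
  good_of_chk [0,3,5,7,6,6,2,7,5,1,7,1,3,1,7,5,0] [2,5] rfl rfl (by (first | (rewrite [Cfsg.Agent.KO9836bcc.e76, Cfsg.Agent.KO9836bcc.e79]; decide +kernel) | decide +kernel))
theorem q_16a : Good (Wd H51.Ore.Ru.w_16a) :=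
  good_of_chk [3,1,2,6,7,6,6,5,3,4,5,1,3,5,4,7,0] [2,1,5,7] rfl rfl (by (first | (rewrite [Cfsg.Agent.KO9836bcc.e76, Cfsg.Agent.KO9836bcc.e79]; decide +kernel) | decide +kernel))
theorem q_20a : Good (Wd H51.Ore.Ru.w_20a) :=
  good_of_chk [0,7,6,2,6,3,6,7,5,3,6,4,3,2,6,5,0] [3,3,3,5] rfl rfl (by (first | (rewrite [Cfsg.Agent.KO9836bcc.e76, Cfsg.Agent.KO9836bcc.e79]; decide +kernel) | decide +kernel))
theorem q_20b : Good (Wd H51.Ore.Ru.w_20b) :=
  good_of_chk [5,7,8,5,3,5,1,7,2,6,3,1,7,5,0] [5,3,4] rfl rfl (by (first | (rewrite [Cfsg.Agent.KO9836bcc.e76, Cfsg.Agent.KO9836bcc.e79]; decide +kernel) | decide +kernel))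
theorem q_20c : Good (Wd H51.Ore.Ru.w_20c) :=
  good_of_chk [5,0,8,3,5,3,6,2,1,7,5,0,4,3,1,1,0] [3,5] rfl rfl (by (first | (rewrite [Cfsg.Agent.KO9836bcc.e76, Cfsg.Agent.KO9836bcc.e79]; decide +kernel) | decide +kernel))
theorem q_24a : Good (Wd H51.Ore.Ru.w_24a) :=
  good_of_chk [7,6,2,8,5,0,1,3,5,3,6,3,8,2,1,1] [2,1,5,3,8] rfl rfl (by (first | (rewrite [Cfsg.Agent.KO9836bcc.e76, Cfsg.Agent.KO9836bcc.e79]; decide +kernel) | decide +kernel))
theorem q_24b : Good (Wd H51.Ore.Ru.w_24b) :=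
  good_of_chk [3,6,2,7,1,7,4,5,3,5,4,1,2] [2,3,5] rfl rfl (by (first | (rewrite [Cfsg.Agent.KO9836bcc.e76, Cfsg.Agent.KO9836bcc.e79]; decide +kernel) | decide +kernel))
theorem q_26a : Good (Wd H51.Ore.Ru.w_26a) :=
  good_of_chk [6,4,7,5,3,6,5,7,6,4,0,5,3,8,2,0] [2,3,3,8] rfl rfl (by (first | (rewrite [Cfsg.Agent.KO9836bcc.e76, Cfsg.Agent.KO9836bcc.e79]; decide +kernel) | decide +kernel))
theorem q_26b : Good (Wd H51.Ore.Ru.w_26b) :=
  good_of_chk [1,3,3,5,7,5,7,1,3,1,3,5,7,6,4,0] [2,3,4] rfl rfl (by (first | (rewrite [Cfsg.Agent.KO9836bcc.e76, Cfsg.Agent.KO9836bcc.e79]; decide +kernel) | decide +kernel))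
theorem q_26c : Good (Wd H51.Ore.Ru.w_26c) :=
  good_of_chk [8,7,6,4,7,2,1,1] [2,3,8] rfl rfl (by (first | (rewrite [Cfsg.Agent.KO9836bcc.e76, Cfsg.Agent.KO9836bcc.e79]; decide +kernel) | decide +kernel))
theorem q_29a : Good (Wd H51.Ore.Ru.w_29a) :=
  good_of_chk [0,5,1,7,5,7,6,2,6,5,3,4,0,5,7,6] [2,1,3,5] rfl rfl (by (first | (rewrite [Cfsg.Agent.KO9836bcc.e76, Cfsg.Agent.KO9836bcc.e79]; decide +kernel) | decide +kernel))
theorem q_29b : Good (Wd H51.Ore.Ru.w_29b) :=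
  good_of_chk [5,7,8,0,1,7,6,5,3,3,1,2,1,1,7] [2,4,7,5] rfl rfl (by (first | (rewrite [Cfsg.Agent.KO9836bcc.e76, Cfsg.Agent.KO9836bcc.e79]; decide +kernel) | decide +kernel))

theorem good_of_conj {w : List ℕ} (hw : Good (Wd w)) {g : Ru} (h : IsConj (wprod ml w) (Main.equiv g : RuOrder.H)) :
    Good g := by
  refine hw.of_isConj ?_
  obtain ⟨c, hc⟩ := isConj_iff.1 h
  refine IsConj.symm (isConj_iff.2 ⟨Main.equiv.symm c, ?_⟩)
  rw [Wd, ← map_mul, ← map_inv, ← map_mul, hc, MulEquiv.symm_apply_apply]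

/-- **every nontrivial class of `Ru` contains a commutator with a fusing element** -/
theorem good_all (g : Ru) (hg : g ≠ 1) : Good g := by
  rcases H51.Ore.Ru.cover (Main.equiv g) with ⟨r, hr, h⟩ | h
  · simp only [H51.Ore.Ru.cls, List.mem_cons, List.not_mem_nil, or_false] at hr
    rcases hr with rfl | rfl | rfl | rfl | rfl | rfl | rfl | rfl | rfl | rfl | rfl | rfl | rfl | rfl | rfl | rfl | rfl | rfl | rfl | rfl | rfl | rfl | rfl | rfl | rfl | rfl | rfl | rfl | rfl | rfl | rfl | rfl | rfl | rfl | rfl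
    · exfalso
      have h1 : (Main.equiv g : RuOrder.H) = 1 := isConj_one_right.1 h
      exact hg (Main.equiv.injective (by rw [map_one]; exact h1))
    exacts [good_of_conj q_2a h,
      good_of_conj q_2b h,
      good_of_conj q_3a h,
      good_of_conj q_4a h,
      good_of_conj q_4b h,
      good_of_conj q_4c h,
      good_of_conj q_4d h,
      good_of_conj q_5a h,
      good_of_conj q_5b h,
      good_of_conj q_6a h,
      good_of_conj q_7a h,
      good_of_conj q_8a h,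
      good_of_conj q_8b h,
      good_of_conj q_8c h,
      good_of_conj q_10a h,
      good_of_conj q_10b h,
      good_of_conj q_12a h,
      good_of_conj q_12b h,
      good_of_conj q_13a h,
      good_of_conj q_14a h,
      good_of_conj q_14b h,
      good_of_conj q_14c h,
      good_of_conj q_15a h,
      good_of_conj q_16a h,
      good_of_conj q_20a h,
      good_of_conj q_20b h,
      good_of_conj q_20c h,
      good_of_conj q_24a h,
      good_of_conj q_24b h,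
      good_of_conj q_26a h,
      good_of_conj q_26b h,
      good_of_conj q_26c h,
      good_of_conj q_29a h,
      good_of_conj q_29b h]
  · have h1 : IsConj (wprod ml H51.Ore.Ru.w_16a) (Main.equiv g⁻¹ : RuOrder.H) := by
      obtain ⟨c, hc⟩ := isConj_iff.1 h
      refine isConj_iff.2 ⟨c, ?_⟩
      rw [map_inv, ← hc]; group
    have h2 := (good_of_conj q_16a h1).inv
    rwa [inv_inv] at h2

/-- **S2491, S2492, row 2.Ru** -/
theorem rowA_ru : RowA Ru := rowA_of fun g hg => good_all g hg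

/-- the row for a copy in any universe -/
theorem row_ru {S : Type*} [Group S] (h : Cfsg.Spor.IsoRu S) : RowA S := by
  obtain ⟨e⟩ := h
  exact rowA_ru.congr e.symm

end Cfsg.Agent.H33.QRu
end

private theorem dce_75b691a882ca : _root_.True := by
  try have : _root_.True := by simp only [_root_.Cfsg.Agent.H815.QS.sw.eq_2]
  try have : _root_.True := by simp only [_root_.Cfsg.Agent.H815.QS.sw.eq_1]
  try have : _root_.True := by simp only [_root_.Cfsg.Agent.H33.QRu.Wd.eq_1]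
  try have : _root_.True := by simp only [_root_.Cfsg.Agent.H815.QS.triv.eq_1]
  try have : _root_.True := by simp only [_root_.Cfsg.Agent.H815.QS.sw.eq_def]
  try have : _root_.True := by simp only [_root_.Cfsg.Agent.H815.QS.chk.eq_1]
  try have : _root_.True := by simp only [_root_.Cfsg.Agent.H33.QRu.ivw.eq_1]
  try have : _root_.True := by simp only [_root_.Cfsg.Agent.H33.QRu.iv.eq_1]
  try have : _root_.True := by simp only [_root_.Cfsg.Agent.H815.QS.xl.eq_1]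
  try have : _root_.True := by simp only [_root_.Cfsg.Agent.H815.QS.cw.eq_1]
  exact _root_.True.intro
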